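-- Certificate data for Fw3; generated by a coset enumerator, checked by the kernel.
import Cfsg.Agent.Lib.Compute.TCFast

set_option autoImplicit false
set_option maxRecDepth 1000000

open Cfsg.Agent.Lib.Compute.ToddCoxeterCore Cfsg.Agent.Lib.Compute.ToddCoxeterPresented Cfsg.Agent.Lib.Compute.TCFast

namespace Cfsg.Agent.Lib.Compute.TC.Fw3

/-- the packed entries -/
noncomputable def tE : TT := .leaf (nat_lit 0xffffff000000000000001820000500000140001000012300004e0000120000000001200004f00001a00000000000ffffff000000000000000c2000049000013000000003f200004b0000160000000011300004800001100000000000ffffff00000000020000103000042000010000000009e2000045000014000000003e200004300001300000000000ffffff000000000200000f300003d00000f00000000192000040000017000000000d200003e00001200000000000ffffff000000000200000e300003a00000e0001000019300004c000019000000000d200003b00001600000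000000ffffff000000000000003d20000380000150000000000200003600000f000000000e300003500000e00000000000ffffff000000000200001a300005100001a00010000183000046000018000000000d300003300000d00000000000ffffff0000000002000019300004a000019000100000c300003100000c0000000018300004400001800000000000ffffff000000000200000b300002f00000b0000000000100004d00001a0000000017300003f00001700000000000ffffff000000000200000a300002c00000a0000000019200002d0000110000000000100004700001900000000000ffffff000000000000000010000410000180000000000200002900000b000000000a300002800000a00000000000ffffff0000000000000000100003c000017000100001530000370000150000000009300002600000900000000000ffffff00000000000000001000039000016000100000830000240000080000000000100003400001500000000000ffffff0000000000000018200002200000d000100000730000210000070000000000100003200001400000000000ffffff000000000000000c200001e00000800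0000000010000300000130000000007300001d00000700000000000ffffff0000000000000000100002e0000120001000010300002a0000100000000006300001b00000600000000000ffffff0000000000000000100002b000011000100000530000190000050000000000100002700001000000000000ffffff00000000000000182000016000006000100000430000150000040000000000100002500000f00000000000ffffff000000000200000c300001f00000c0000000000100002300000e0000000004300001300000400000000000ffffff000000000200000330000110000030000000000100002000000d0000000000100001c00000c00000000000ffffff000000000200000930000170000090001000002300000f0000020000000000100001a00000b00000000000ffffff000000000000000c200000d0000050000000000100001800000a0000000002300000c00000200000000000ffffff0000000002000001300000a000001000000000010000140000090000000000100001200000800000000000ffffff00000000000000001000010000007000000000020000080000030000000001300000700000100000000000ffffff000000000200000030000050000000000000000100000e0000060000000000100000b00000500000000000ffffff00000000000000001000009000004000100000030000030000000000000000100000600000300000000000ffffff000000000000000010000040000020000000000100000200000100000000005000001000000)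
/-- the definitions -/
noncomputable def tP : TT := .leaf (nat_lit 0x4900000044000000420000003e0000003a0000003800000034000000310000002e0000002a0000002800000024000000210000001d0000001c000000180000001500000011000000100000000e00000009000000080000000600000004000000020000000100000000)
/-- the parents -/
noncomputable def tQ : TT := .leaf (nat_lit 0x4900000044000000420000003e0000003a0000003800000034000000310000002e0000002a0000002800000024000000210000001d0000001c000000180000001500000011000000100000000e00000009000000080000000600000004000000020000000100000000)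
/-- the orbit tables -/
noncomputable def tO : TT := .leaf (nat_lit 0x0)
/-- the rule table -/
noncomputable def rT : RT := .node (nat_lit 162) (.node (nat_lit 81) (.node (nat_lit 40) (.node (nat_lit 20) (.node (nat_lit 10) (.node (nat_lit 5) (.node (nat_lit 2) (.node (nat_lit 1) (.leaf (nat_lit 0) (nat_lit 1) [nat_lit 0, nat_lit 1, nat_lit 0, nat_lit 1, nat_lit 0]) (.leaf (nat_lit 1) (nat_lit 0) [nat_lit 1, nat_lit 0, nat_lit 1, nat_lit 0, nat_lit 1])) (.node (nat_lit 3) (.leaf (nat_lit 0) (nat_lit 1) [nat_lit 0, nat_lit 1, nat_lit 0, nat_lit 1, nat_lit 0]) (.node (nat_lit 4) (.leaf (nat_lit 1) (nat_lit 0) [nat_lit 1, nat_lit 0, nat_lit 1, nat_lit 0, nat_lit 1]) (.leaf (nat_lit 0) (nat_lit 1) [nat_lit 0, nat_lit 1, nat_lit 0, nat_lit 1, nat_lit 0])))) (.node (nat_lit 7) (.node (nat_lit 6) (.leaf (nat_lit 1) (nat_lit 0) [nat_lit 1, nat_lit 0, nat_lit 1, nat_lit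 0, nat_lit 1]) (.leaf (nat_lit 1) (nat_lit 0) [nat_lit 1, nat_lit 0, nat_lit 1, nat_lit 0, nat_lit 1])) (.node (nat_lit 8) (.leaf (nat_lit 0) (nat_lit 1) [nat_lit 0, nat_lit 1, nat_lit 0, nat_lit 1, nat_lit 0]) (.node (nat_lit 9) (.leaf (nat_lit 1) (nat_lit 0) [nat_lit 1, nat_lit 0, nat_lit 1, nat_lit 0, nat_lit 1]) (.leaf (nat_lit 0) (nat_lit 1) [nat_lit 0, nat_lit 1, nat_lit 0, nat_lit 1, nat_lit 0]))))) (.node (nat_lit 15) (.node (nat_lit 12) (.node (nat_lit 11) (.leaf (nat_lit 1) (nat_lit 0) [nat_lit 1, nat_lit 0, nat_lit 1, nat_lit 0, nat_lit 1]) (.leaf (nat_lit 0) (nat_lit 1) [nat_lit 0, nat_lit 1, nat_lit 0, nat_lit 1, nat_lit 0])) (.node (nat_lit 13) (.leaf (nat_lit 12) (nat_lit 2) [nat_lit 0, nat_lit 2, nat_lit 0, nat_lit 2, nat_lit 0]) (.node (nat_lit 14) (.leaf (nat_lit 13) (nat_lit 0) [nat_lit 2, nat_lit 0, nat_lit 2, nat_lit 0, nat_lit 2]) (.leaf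 (nat_lit 12) (nat_lit 2) [nat_lit 0, nat_lit 2, nat_lit 0, nat_lit 2, nat_lit 0])))) (.node (nat_lit 17) (.node (nat_lit 16) (.leaf (nat_lit 13) (nat_lit 0) [nat_lit 2, nat_lit 0, nat_lit 2, nat_lit 0, nat_lit 2]) (.leaf (nat_lit 12) (nat_lit 2) [nat_lit 0, nat_lit 2, nat_lit 0, nat_lit 2, nat_lit 0])) (.node (nat_lit 18) (.leaf (nat_lit 13) (nat_lit 0) [nat_lit 2, nat_lit 0, nat_lit 2, nat_lit 0, nat_lit 2]) (.node (nat_lit 19) (.leaf (nat_lit 13) (nat_lit 0) [nat_lit 2, nat_lit 0, nat_lit 2, nat_lit 0, nat_lit 2]) (.leaf (nat_lit 12) (nat_lit 2) [nat_lit 0, nat_lit 2, nat_lit 0, nat_lit 2, nat_lit 0])))))) (.node (nat_lit 30) (.node (nat_lit 25) (.node (nat_lit 22) (.node (nat_lit 21) (.leaf (nat_lit 13) (nat_lit 0) [nat_lit 2, nat_lit 0, nat_lit 2, nat_lit 0, nat_lit 2]) (.leaf (nat_lit 12) (nat_lit 2) [nat_lit 0, nat_lit 2, nat_lit 0, nat_lit 2, nat_lit 0]))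 (.node (nat_lit 23) (.leaf (nat_lit 13) (nat_lit 0) [nat_lit 2, nat_lit 0, nat_lit 2, nat_lit 0, nat_lit 2]) (.node (nat_lit 24) (.leaf (nat_lit 12) (nat_lit 2) [nat_lit 0, nat_lit 2, nat_lit 0, nat_lit 2, nat_lit 0]) (.leaf (nat_lit 24) (nat_lit 2) [nat_lit 1, nat_lit 2, nat_lit 1, nat_lit 2, nat_lit 1])))) (.node (nat_lit 27) (.node (nat_lit 26) (.leaf (nat_lit 25) (nat_lit 1) [nat_lit 2, nat_lit 1, nat_lit 2, nat_lit 1, nat_lit 2]) (.leaf (nat_lit 24) (nat_lit 2) [nat_lit 1, nat_lit 2, nat_lit 1, nat_lit 2, nat_lit 1])) (.node (nat_lit 28) (.leaf (nat_lit 25) (nat_lit 1) [nat_lit 2, nat_lit 1, nat_lit 2, nat_lit 1, nat_lit 2]) (.node (nat_lit 29) (.leaf (nat_lit 24) (nat_lit 2) [nat_lit 1, nat_lit 2, nat_lit 1, nat_lit 2, nat_lit 1]) (.leaf (nat_lit 25) (nat_lit 1) [nat_lit 2, nat_lit 1, nat_lit 2, nat_lit 1, nat_lit 2]))))) (.node (nat_lit 35) (.node (nat_lit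 32) (.node (nat_lit 31) (.leaf (nat_lit 25) (nat_lit 1) [nat_lit 2, nat_lit 1, nat_lit 2, nat_lit 1, nat_lit 2]) (.leaf (nat_lit 24) (nat_lit 2) [nat_lit 1, nat_lit 2, nat_lit 1, nat_lit 2, nat_lit 1])) (.node (nat_lit 33) (.leaf (nat_lit 25) (nat_lit 1) [nat_lit 2, nat_lit 1, nat_lit 2, nat_lit 1, nat_lit 2]) (.node (nat_lit 34) (.leaf (nat_lit 24) (nat_lit 2) [nat_lit 1, nat_lit 2, nat_lit 1, nat_lit 2, nat_lit 1]) (.leaf (nat_lit 25) (nat_lit 1) [nat_lit 2, nat_lit 1, nat_lit 2, nat_lit 1, nat_lit 2])))) (.node (nat_lit 37) (.node (nat_lit 36) (.leaf (nat_lit 24) (nat_lit 2) [nat_lit 1, nat_lit 2, nat_lit 1, nat_lit 2, nat_lit 1]) (.leaf (nat_lit 36) (nat_lit 0) [nat_lit 1, nat_lit 0, nat_lit 1, nat_lit 0, nat_lit 1, nat_lit 0, nat_lit 1, nat_lit 0, nat_lit 1, nat_lit 0, nat_lit 1])) (.node (nat_lit 38) (.leaf (nat_lit 37) (nat_lit 1) [nat_lit 0, nat_lit 1,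 nat_lit 0, nat_lit 1, nat_lit 0, nat_lit 1, nat_lit 0, nat_lit 1, nat_lit 0, nat_lit 1, nat_lit 0]) (.node (nat_lit 39) (.leaf (nat_lit 36) (nat_lit 0) [nat_lit 1, nat_lit 0, nat_lit 1, nat_lit 0, nat_lit 1, nat_lit 0, nat_lit 1, nat_lit 0, nat_lit 1, nat_lit 0, nat_lit 1]) (.leaf (nat_lit 37) (nat_lit 1) [nat_lit 0, nat_lit 1, nat_lit 0, nat_lit 1, nat_lit 0, nat_lit 1, nat_lit 0, nat_lit 1, nat_lit 0, nat_lit 1, nat_lit 0]))))))) (.node (nat_lit 60) (.node (nat_lit 50) (.node (nat_lit 45) (.node (nat_lit 42) (.node (nat_lit 41) (.leaf (nat_lit 36) (nat_lit 0) [nat_lit 1, nat_lit 0, nat_lit 1, nat_lit 0, nat_lit 1, nat_lit 0, nat_lit 1, nat_lit 0, nat_lit 1, nat_lit 0, nat_lit 1]) (.leaf (nat_lit 37) (nat_lit 1) [nat_lit 0, nat_lit 1, nat_lit 0, nat_lit 1, nat_lit 0, nat_lit 1, nat_lit 0, nat_lit 1, nat_lit 0, nat_lit 1, nat_lit 0])) (.node (nat_lit 43) (.leaf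 (nat_lit 36) (nat_lit 0) [nat_lit 1, nat_lit 0, nat_lit 1, nat_lit 0, nat_lit 1, nat_lit 0, nat_lit 1, nat_lit 0, nat_lit 1, nat_lit 0, nat_lit 1]) (.node (nat_lit 44) (.leaf (nat_lit 37) (nat_lit 1) [nat_lit 0, nat_lit 1, nat_lit 0, nat_lit 1, nat_lit 0, nat_lit 1, nat_lit 0, nat_lit 1, nat_lit 0, nat_lit 1, nat_lit 0]) (.leaf (nat_lit 36) (nat_lit 0) [nat_lit 1, nat_lit 0, nat_lit 1, nat_lit 0, nat_lit 1, nat_lit 0, nat_lit 1, nat_lit 0, nat_lit 1, nat_lit 0, nat_lit 1])))) (.node (nat_lit 47) (.node (nat_lit 46) (.leaf (nat_lit 37) (nat_lit 1) [nat_lit 0, nat_lit 1, nat_lit 0, nat_lit 1, nat_lit 0, nat_lit 1, nat_lit 0, nat_lit 1, nat_lit 0, nat_lit 1, nat_lit 0]) (.leaf (nat_lit 36) (nat_lit 0) [nat_lit 1, nat_lit 0, nat_lit 1, nat_lit 0, nat_lit 1, nat_lit 0, nat_lit 1, nat_lit 0, nat_lit 1, nat_lit 0, nat_lit 1])) (.node (nat_lit 48) (.leaf (nat_lit 37)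 (nat_lit 1) [nat_lit 0, nat_lit 1, nat_lit 0, nat_lit 1, nat_lit 0, nat_lit 1, nat_lit 0, nat_lit 1, nat_lit 0, nat_lit 1, nat_lit 0]) (.node (nat_lit 49) (.leaf (nat_lit 37) (nat_lit 1) [nat_lit 0, nat_lit 1, nat_lit 0, nat_lit 1, nat_lit 0, nat_lit 1, nat_lit 0, nat_lit 1, nat_lit 0, nat_lit 1, nat_lit 0]) (.leaf (nat_lit 36) (nat_lit 0) [nat_lit 1, nat_lit 0, nat_lit 1, nat_lit 0, nat_lit 1, nat_lit 0, nat_lit 1, nat_lit 0, nat_lit 1, nat_lit 0, nat_lit 1]))))) (.node (nat_lit 55) (.node (nat_lit 52) (.node (nat_lit 51) (.leaf (nat_lit 37) (nat_lit 1) [nat_lit 0, nat_lit 1, nat_lit 0, nat_lit 1, nat_lit 0, nat_lit 1, nat_lit 0, nat_lit 1, nat_lit 0, nat_lit 1, nat_lit 0]) (.leaf (nat_lit 36) (nat_lit 0) [nat_lit 1, nat_lit 0, nat_lit 1, nat_lit 0, nat_lit 1, nat_lit 0, nat_lit 1, nat_lit 0, nat_lit 1, nat_lit 0, nat_lit 1])) (.node (nat_lit 53) (.leaf (nat_lit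 37) (nat_lit 1) [nat_lit 0, nat_lit 1, nat_lit 0, nat_lit 1, nat_lit 0, nat_lit 1, nat_lit 0, nat_lit 1, nat_lit 0, nat_lit 1, nat_lit 0]) (.node (nat_lit 54) (.leaf (nat_lit 36) (nat_lit 0) [nat_lit 1, nat_lit 0, nat_lit 1, nat_lit 0, nat_lit 1, nat_lit 0, nat_lit 1, nat_lit 0, nat_lit 1, nat_lit 0, nat_lit 1]) (.leaf (nat_lit 37) (nat_lit 1) [nat_lit 0, nat_lit 1, nat_lit 0, nat_lit 1, nat_lit 0, nat_lit 1, nat_lit 0, nat_lit 1, nat_lit 0, nat_lit 1, nat_lit 0])))) (.node (nat_lit 57) (.node (nat_lit 56) (.leaf (nat_lit 36) (nat_lit 0) [nat_lit 1, nat_lit 0, nat_lit 1, nat_lit 0, nat_lit 1, nat_lit 0, nat_lit 1, nat_lit 0, nat_lit 1, nat_lit 0, nat_lit 1]) (.leaf (nat_lit 37) (nat_lit 1) [nat_lit 0, nat_lit 1, nat_lit 0, nat_lit 1, nat_lit 0, nat_lit 1, nat_lit 0, nat_lit 1, nat_lit 0, nat_lit 1, nat_lit 0])) (.node (nat_lit 58) (.leaf (nat_lit 36) (nat_lit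 0) [nat_lit 1, nat_lit 0, nat_lit 1, nat_lit 0, nat_lit 1, nat_lit 0, nat_lit 1, nat_lit 0, nat_lit 1, nat_lit 0, nat_lit 1]) (.node (nat_lit 59) (.leaf (nat_lit 37) (nat_lit 1) [nat_lit 0, nat_lit 1, nat_lit 0, nat_lit 1, nat_lit 0, nat_lit 1, nat_lit 0, nat_lit 1, nat_lit 0, nat_lit 1, nat_lit 0]) (.leaf (nat_lit 36) (nat_lit 0) [nat_lit 1, nat_lit 0, nat_lit 1, nat_lit 0, nat_lit 1, nat_lit 0, nat_lit 1, nat_lit 0, nat_lit 1, nat_lit 0, nat_lit 1])))))) (.node (nat_lit 70) (.node (nat_lit 65) (.node (nat_lit 62) (.node (nat_lit 61) (.leaf (nat_lit 60) (nat_lit 0) [nat_lit 1, nat_lit 0, nat_lit 2, nat_lit 0, nat_lit 1, nat_lit 0, nat_lit 2, nat_lit 0, nat_lit 1, nat_lit 0, nat_lit 2]) (.leaf (nat_lit 61) (nat_lit 2) [nat_lit 0, nat_lit 1, nat_lit 0, nat_lit 2, nat_lit 0, nat_lit 1, nat_lit 0, nat_lit 2, nat_lit 0, nat_lit 1, nat_lit 0])) (.node (nat_lit 63)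 (.leaf (nat_lit 62) (nat_lit 0) [nat_lit 2, nat_lit 0, nat_lit 1, nat_lit 0, nat_lit 2, nat_lit 0, nat_lit 1, nat_lit 0, nat_lit 2, nat_lit 0, nat_lit 1]) (.node (nat_lit 64) (.leaf (nat_lit 63) (nat_lit 1) [nat_lit 0, nat_lit 2, nat_lit 0, nat_lit 1, nat_lit 0, nat_lit 2, nat_lit 0, nat_lit 1, nat_lit 0, nat_lit 2, nat_lit 0]) (.leaf (nat_lit 60) (nat_lit 0) [nat_lit 1, nat_lit 0, nat_lit 2, nat_lit 0, nat_lit 1, nat_lit 0, nat_lit 2, nat_lit 0, nat_lit 1, nat_lit 0, nat_lit 2])))) (.node (nat_lit 67) (.node (nat_lit 66) (.leaf (nat_lit 61) (nat_lit 2) [nat_lit 0, nat_lit 1, nat_lit 0, nat_lit 2, nat_lit 0, nat_lit 1, nat_lit 0, nat_lit 2, nat_lit 0, nat_lit 1, nat_lit 0]) (.leaf (nat_lit 62) (nat_lit 0) [nat_lit 2, nat_lit 0, nat_lit 1, nat_lit 0, nat_lit 2, nat_lit 0, nat_lit 1, nat_lit 0, nat_lit 2, nat_lit 0, nat_lit 1])) (.node (nat_lit 68) (.leaf (nat_lit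 63) (nat_lit 1) [nat_lit 0, nat_lit 2, nat_lit 0, nat_lit 1, nat_lit 0, nat_lit 2, nat_lit 0, nat_lit 1, nat_lit 0, nat_lit 2, nat_lit 0]) (.node (nat_lit 69) (.leaf (nat_lit 60) (nat_lit 0) [nat_lit 1, nat_lit 0, nat_lit 2, nat_lit 0, nat_lit 1, nat_lit 0, nat_lit 2, nat_lit 0, nat_lit 1, nat_lit 0, nat_lit 2]) (.leaf (nat_lit 61) (nat_lit 2) [nat_lit 0, nat_lit 1, nat_lit 0, nat_lit 2, nat_lit 0, nat_lit 1, nat_lit 0, nat_lit 2, nat_lit 0, nat_lit 1, nat_lit 0]))))) (.node (nat_lit 75) (.node (nat_lit 72) (.node (nat_lit 71) (.leaf (nat_lit 62) (nat_lit 0) [nat_lit 2, nat_lit 0, nat_lit 1, nat_lit 0, nat_lit 2, nat_lit 0, nat_lit 1, nat_lit 0, nat_lit 2, nat_lit 0, nat_lit 1]) (.leaf (nat_lit 63) (nat_lit 1) [nat_lit 0, nat_lit 2, nat_lit 0, nat_lit 1, nat_lit 0, nat_lit 2, nat_lit 0, nat_lit 1, nat_lit 0, nat_lit 2, nat_lit 0])) (.node (nat_lit 73) (.leaf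 (nat_lit 63) (nat_lit 1) [nat_lit 0, nat_lit 2, nat_lit 0, nat_lit 1, nat_lit 0, nat_lit 2, nat_lit 0, nat_lit 1, nat_lit 0, nat_lit 2, nat_lit 0]) (.node (nat_lit 74) (.leaf (nat_lit 60) (nat_lit 0) [nat_lit 1, nat_lit 0, nat_lit 2, nat_lit 0, nat_lit 1, nat_lit 0, nat_lit 2, nat_lit 0, nat_lit 1, nat_lit 0, nat_lit 2]) (.leaf (nat_lit 61) (nat_lit 2) [nat_lit 0, nat_lit 1, nat_lit 0, nat_lit 2, nat_lit 0, nat_lit 1, nat_lit 0, nat_lit 2, nat_lit 0, nat_lit 1, nat_lit 0])))) (.node (nat_lit 78) (.node (nat_lit 76) (.leaf (nat_lit 62) (nat_lit 0) [nat_lit 2, nat_lit 0, nat_lit 1, nat_lit 0, nat_lit 2, nat_lit 0, nat_lit 1, nat_lit 0, nat_lit 2, nat_lit 0, nat_lit 1]) (.node (nat_lit 77) (.leaf (nat_lit 63) (nat_lit 1) [nat_lit 0, nat_lit 2, nat_lit 0, nat_lit 1, nat_lit 0, nat_lit 2, nat_lit 0, nat_lit 1, nat_lit 0, nat_lit 2, nat_lit 0]) (.leaf (nat_lit 60)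 (nat_lit 0) [nat_lit 1, nat_lit 0, nat_lit 2, nat_lit 0, nat_lit 1, nat_lit 0, nat_lit 2, nat_lit 0, nat_lit 1, nat_lit 0, nat_lit 2]))) (.node (nat_lit 79) (.leaf (nat_lit 61) (nat_lit 2) [nat_lit 0, nat_lit 1, nat_lit 0, nat_lit 2, nat_lit 0, nat_lit 1, nat_lit 0, nat_lit 2, nat_lit 0, nat_lit 1, nat_lit 0]) (.node (nat_lit 80) (.leaf (nat_lit 62) (nat_lit 0) [nat_lit 2, nat_lit 0, nat_lit 1, nat_lit 0, nat_lit 2, nat_lit 0, nat_lit 1, nat_lit 0, nat_lit 2, nat_lit 0, nat_lit 1]) (.leaf (nat_lit 63) (nat_lit 1) [nat_lit 0, nat_lit 2, nat_lit 0, nat_lit 1, nat_lit 0, nat_lit 2, nat_lit 0, nat_lit 1, nat_lit 0, nat_lit 2, nat_lit 0])))))))) (.node (nat_lit 121) (.node (nat_lit 101) (.node (nat_lit 91) (.node (nat_lit 86) (.node (nat_lit 83) (.node (nat_lit 82) (.leaf (nat_lit 60) (nat_lit 0) [nat_lit 1, nat_lit 0, nat_lit 2, nat_lit 0, nat_lit 1, nat_lit 0, nat_lit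 2, nat_lit 0, nat_lit 1, nat_lit 0, nat_lit 2]) (.leaf (nat_lit 61) (nat_lit 2) [nat_lit 0, nat_lit 1, nat_lit 0, nat_lit 2, nat_lit 0, nat_lit 1, nat_lit 0, nat_lit 2, nat_lit 0, nat_lit 1, nat_lit 0])) (.node (nat_lit 84) (.leaf (nat_lit 62) (nat_lit 0) [nat_lit 2, nat_lit 0, nat_lit 1, nat_lit 0, nat_lit 2, nat_lit 0, nat_lit 1, nat_lit 0, nat_lit 2, nat_lit 0, nat_lit 1]) (.node (nat_lit 85) (.leaf (nat_lit 62) (nat_lit 0) [nat_lit 2, nat_lit 0, nat_lit 1, nat_lit 0, nat_lit 2, nat_lit 0, nat_lit 1, nat_lit 0, nat_lit 2, nat_lit 0, nat_lit 1]) (.leaf (nat_lit 63) (nat_lit 1) [nat_lit 0, nat_lit 2, nat_lit 0, nat_lit 1, nat_lit 0, nat_lit 2, nat_lit 0, nat_lit 1, nat_lit 0, nat_lit 2, nat_lit 0])))) (.node (nat_lit 88) (.node (nat_lit 87) (.leaf (nat_lit 60) (nat_lit 0) [nat_lit 1, nat_lit 0, nat_lit 2, nat_lit 0, nat_lit 1, nat_lit 0, nat_lit 2, nat_lit 0,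 nat_lit 1, nat_lit 0, nat_lit 2]) (.leaf (nat_lit 61) (nat_lit 2) [nat_lit 0, nat_lit 1, nat_lit 0, nat_lit 2, nat_lit 0, nat_lit 1, nat_lit 0, nat_lit 2, nat_lit 0, nat_lit 1, nat_lit 0])) (.node (nat_lit 89) (.leaf (nat_lit 62) (nat_lit 0) [nat_lit 2, nat_lit 0, nat_lit 1, nat_lit 0, nat_lit 2, nat_lit 0, nat_lit 1, nat_lit 0, nat_lit 2, nat_lit 0, nat_lit 1]) (.node (nat_lit 90) (.leaf (nat_lit 63) (nat_lit 1) [nat_lit 0, nat_lit 2, nat_lit 0, nat_lit 1, nat_lit 0, nat_lit 2, nat_lit 0, nat_lit 1, nat_lit 0, nat_lit 2, nat_lit 0]) (.leaf (nat_lit 60) (nat_lit 0) [nat_lit 1, nat_lit 0, nat_lit 2, nat_lit 0, nat_lit 1, nat_lit 0, nat_lit 2, nat_lit 0, nat_lit 1, nat_lit 0, nat_lit 2]))))) (.node (nat_lit 96) (.node (nat_lit 93) (.node (nat_lit 92) (.leaf (nat_lit 61) (nat_lit 2) [nat_lit 0, nat_lit 1, nat_lit 0, nat_lit 2, nat_lit 0, nat_lit 1, nat_lit 0, nat_lit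 2, nat_lit 0, nat_lit 1, nat_lit 0]) (.leaf (nat_lit 62) (nat_lit 0) [nat_lit 2, nat_lit 0, nat_lit 1, nat_lit 0, nat_lit 2, nat_lit 0, nat_lit 1, nat_lit 0, nat_lit 2, nat_lit 0, nat_lit 1])) (.node (nat_lit 94) (.leaf (nat_lit 63) (nat_lit 1) [nat_lit 0, nat_lit 2, nat_lit 0, nat_lit 1, nat_lit 0, nat_lit 2, nat_lit 0, nat_lit 1, nat_lit 0, nat_lit 2, nat_lit 0]) (.node (nat_lit 95) (.leaf (nat_lit 60) (nat_lit 0) [nat_lit 1, nat_lit 0, nat_lit 2, nat_lit 0, nat_lit 1, nat_lit 0, nat_lit 2, nat_lit 0, nat_lit 1, nat_lit 0, nat_lit 2]) (.leaf (nat_lit 61) (nat_lit 2) [nat_lit 0, nat_lit 1, nat_lit 0, nat_lit 2, nat_lit 0, nat_lit 1, nat_lit 0, nat_lit 2, nat_lit 0, nat_lit 1, nat_lit 0])))) (.node (nat_lit 98) (.node (nat_lit 97) (.leaf (nat_lit 61) (nat_lit 2) [nat_lit 0, nat_lit 1, nat_lit 0, nat_lit 2, nat_lit 0, nat_lit 1, nat_lit 0, nat_lit 2, nat_lit 0,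 nat_lit 1, nat_lit 0]) (.leaf (nat_lit 62) (nat_lit 0) [nat_lit 2, nat_lit 0, nat_lit 1, nat_lit 0, nat_lit 2, nat_lit 0, nat_lit 1, nat_lit 0, nat_lit 2, nat_lit 0, nat_lit 1])) (.node (nat_lit 99) (.leaf (nat_lit 63) (nat_lit 1) [nat_lit 0, nat_lit 2, nat_lit 0, nat_lit 1, nat_lit 0, nat_lit 2, nat_lit 0, nat_lit 1, nat_lit 0, nat_lit 2, nat_lit 0]) (.node (nat_lit 100) (.leaf (nat_lit 60) (nat_lit 0) [nat_lit 1, nat_lit 0, nat_lit 2, nat_lit 0, nat_lit 1, nat_lit 0, nat_lit 2, nat_lit 0, nat_lit 1, nat_lit 0, nat_lit 2]) (.leaf (nat_lit 61) (nat_lit 2) [nat_lit 0, nat_lit 1, nat_lit 0, nat_lit 2, nat_lit 0, nat_lit 1, nat_lit 0, nat_lit 2, nat_lit 0, nat_lit 1, nat_lit 0])))))) (.node (nat_lit 111) (.node (nat_lit 106) (.node (nat_lit 103) (.node (nat_lit 102) (.leaf (nat_lit 62) (nat_lit 0) [nat_lit 2, nat_lit 0, nat_lit 1, nat_lit 0, nat_lit 2, nat_lit 0,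 nat_lit 1, nat_lit 0, nat_lit 2, nat_lit 0, nat_lit 1]) (.leaf (nat_lit 63) (nat_lit 1) [nat_lit 0, nat_lit 2, nat_lit 0, nat_lit 1, nat_lit 0, nat_lit 2, nat_lit 0, nat_lit 1, nat_lit 0, nat_lit 2, nat_lit 0])) (.node (nat_lit 104) (.leaf (nat_lit 60) (nat_lit 0) [nat_lit 1, nat_lit 0, nat_lit 2, nat_lit 0, nat_lit 1, nat_lit 0, nat_lit 2, nat_lit 0, nat_lit 1, nat_lit 0, nat_lit 2]) (.node (nat_lit 105) (.leaf (nat_lit 61) (nat_lit 2) [nat_lit 0, nat_lit 1, nat_lit 0, nat_lit 2, nat_lit 0, nat_lit 1, nat_lit 0, nat_lit 2, nat_lit 0, nat_lit 1, nat_lit 0]) (.leaf (nat_lit 62) (nat_lit 0) [nat_lit 2, nat_lit 0, nat_lit 1, nat_lit 0, nat_lit 2, nat_lit 0, nat_lit 1, nat_lit 0, nat_lit 2, nat_lit 0, nat_lit 1])))) (.node (nat_lit 108) (.node (nat_lit 107) (.leaf (nat_lit 63) (nat_lit 1) [nat_lit 0, nat_lit 2, nat_lit 0, nat_lit 1, nat_lit 0, nat_lit 2, nat_lit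 0, nat_lit 1, nat_lit 0, nat_lit 2, nat_lit 0]) (.leaf (nat_lit 60) (nat_lit 0) [nat_lit 1, nat_lit 0, nat_lit 2, nat_lit 0, nat_lit 1, nat_lit 0, nat_lit 2, nat_lit 0, nat_lit 1, nat_lit 0, nat_lit 2])) (.node (nat_lit 109) (.leaf (nat_lit 108) (nat_lit 0) [nat_lit 2, nat_lit 0, nat_lit 2, nat_lit 0, nat_lit 2, nat_lit 0, nat_lit 2, nat_lit 0, nat_lit 2, nat_lit 0, nat_lit 2]) (.node (nat_lit 110) (.leaf (nat_lit 109) (nat_lit 2) [nat_lit 0, nat_lit 2, nat_lit 0, nat_lit 2, nat_lit 0, nat_lit 2, nat_lit 0, nat_lit 2, nat_lit 0, nat_lit 2, nat_lit 0]) (.leaf (nat_lit 108) (nat_lit 0) [nat_lit 2, nat_lit 0, nat_lit 2, nat_lit 0, nat_lit 2, nat_lit 0, nat_lit 2, nat_lit 0, nat_lit 2, nat_lit 0, nat_lit 2]))))) (.node (nat_lit 116) (.node (nat_lit 113) (.node (nat_lit 112) (.leaf (nat_lit 109) (nat_lit 2) [nat_lit 0, nat_lit 2, nat_lit 0, nat_lit 2, nat_lit 0, nat_lit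 2, nat_lit 0, nat_lit 2, nat_lit 0, nat_lit 2, nat_lit 0]) (.leaf (nat_lit 108) (nat_lit 0) [nat_lit 2, nat_lit 0, nat_lit 2, nat_lit 0, nat_lit 2, nat_lit 0, nat_lit 2, nat_lit 0, nat_lit 2, nat_lit 0, nat_lit 2])) (.node (nat_lit 114) (.leaf (nat_lit 109) (nat_lit 2) [nat_lit 0, nat_lit 2, nat_lit 0, nat_lit 2, nat_lit 0, nat_lit 2, nat_lit 0, nat_lit 2, nat_lit 0, nat_lit 2, nat_lit 0]) (.node (nat_lit 115) (.leaf (nat_lit 108) (nat_lit 0) [nat_lit 2, nat_lit 0, nat_lit 2, nat_lit 0, nat_lit 2, nat_lit 0, nat_lit 2, nat_lit 0, nat_lit 2, nat_lit 0, nat_lit 2]) (.leaf (nat_lit 109) (nat_lit 2) [nat_lit 0, nat_lit 2, nat_lit 0, nat_lit 2, nat_lit 0, nat_lit 2, nat_lit 0, nat_lit 2, nat_lit 0, nat_lit 2, nat_lit 0])))) (.node (nat_lit 118) (.node (nat_lit 117) (.leaf (nat_lit 108) (nat_lit 0) [nat_lit 2, nat_lit 0, nat_lit 2, nat_lit 0, nat_lit 2, nat_lit 0,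 nat_lit 2, nat_lit 0, nat_lit 2, nat_lit 0, nat_lit 2]) (.leaf (nat_lit 109) (nat_lit 2) [nat_lit 0, nat_lit 2, nat_lit 0, nat_lit 2, nat_lit 0, nat_lit 2, nat_lit 0, nat_lit 2, nat_lit 0, nat_lit 2, nat_lit 0])) (.node (nat_lit 119) (.leaf (nat_lit 108) (nat_lit 0) [nat_lit 2, nat_lit 0, nat_lit 2, nat_lit 0, nat_lit 2, nat_lit 0, nat_lit 2, nat_lit 0, nat_lit 2, nat_lit 0, nat_lit 2]) (.node (nat_lit 120) (.leaf (nat_lit 109) (nat_lit 2) [nat_lit 0, nat_lit 2, nat_lit 0, nat_lit 2, nat_lit 0, nat_lit 2, nat_lit 0, nat_lit 2, nat_lit 0, nat_lit 2, nat_lit 0]) (.leaf (nat_lit 109) (nat_lit 2) [nat_lit 0, nat_lit 2, nat_lit 0, nat_lit 2, nat_lit 0, nat_lit 2, nat_lit 0, nat_lit 2, nat_lit 0, nat_lit 2, nat_lit 0]))))))) (.node (nat_lit 141) (.node (nat_lit 131) (.node (nat_lit 126) (.node (nat_lit 123) (.node (nat_lit 122) (.leaf (nat_lit 108) (nat_lit 0) [nat_lit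 2, nat_lit 0, nat_lit 2, nat_lit 0, nat_lit 2, nat_lit 0, nat_lit 2, nat_lit 0, nat_lit 2, nat_lit 0, nat_lit 2]) (.leaf (nat_lit 109) (nat_lit 2) [nat_lit 0, nat_lit 2, nat_lit 0, nat_lit 2, nat_lit 0, nat_lit 2, nat_lit 0, nat_lit 2, nat_lit 0, nat_lit 2, nat_lit 0])) (.node (nat_lit 124) (.leaf (nat_lit 108) (nat_lit 0) [nat_lit 2, nat_lit 0, nat_lit 2, nat_lit 0, nat_lit 2, nat_lit 0, nat_lit 2, nat_lit 0, nat_lit 2, nat_lit 0, nat_lit 2]) (.node (nat_lit 125) (.leaf (nat_lit 109) (nat_lit 2) [nat_lit 0, nat_lit 2, nat_lit 0, nat_lit 2, nat_lit 0, nat_lit 2, nat_lit 0, nat_lit 2, nat_lit 0, nat_lit 2, nat_lit 0]) (.leaf (nat_lit 108) (nat_lit 0) [nat_lit 2, nat_lit 0, nat_lit 2, nat_lit 0, nat_lit 2, nat_lit 0, nat_lit 2, nat_lit 0, nat_lit 2, nat_lit 0, nat_lit 2])))) (.node (nat_lit 128) (.node (nat_lit 127) (.leaf (nat_lit 109) (nat_lit 2) [nat_lit 0,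 nat_lit 2, nat_lit 0, nat_lit 2, nat_lit 0, nat_lit 2, nat_lit 0, nat_lit 2, nat_lit 0, nat_lit 2, nat_lit 0]) (.leaf (nat_lit 108) (nat_lit 0) [nat_lit 2, nat_lit 0, nat_lit 2, nat_lit 0, nat_lit 2, nat_lit 0, nat_lit 2, nat_lit 0, nat_lit 2, nat_lit 0, nat_lit 2])) (.node (nat_lit 129) (.leaf (nat_lit 109) (nat_lit 2) [nat_lit 0, nat_lit 2, nat_lit 0, nat_lit 2, nat_lit 0, nat_lit 2, nat_lit 0, nat_lit 2, nat_lit 0, nat_lit 2, nat_lit 0]) (.node (nat_lit 130) (.leaf (nat_lit 108) (nat_lit 0) [nat_lit 2, nat_lit 0, nat_lit 2, nat_lit 0, nat_lit 2, nat_lit 0, nat_lit 2, nat_lit 0, nat_lit 2, nat_lit 0, nat_lit 2]) (.leaf (nat_lit 109) (nat_lit 2) [nat_lit 0, nat_lit 2, nat_lit 0, nat_lit 2, nat_lit 0, nat_lit 2, nat_lit 0, nat_lit 2, nat_lit 0, nat_lit 2, nat_lit 0]))))) (.node (nat_lit 136) (.node (nat_lit 133) (.node (nat_lit 132) (.leaf (nat_lit 108) (nat_lit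 0) [nat_lit 2, nat_lit 0, nat_lit 2, nat_lit 0, nat_lit 2, nat_lit 0, nat_lit 2, nat_lit 0, nat_lit 2, nat_lit 0, nat_lit 2]) (.leaf (nat_lit 37) (nat_lit 1) [nat_lit 0, nat_lit 1, nat_lit 0, nat_lit 1, nat_lit 0, nat_lit 1, nat_lit 0, nat_lit 1, nat_lit 0, nat_lit 1, nat_lit 0])) (.node (nat_lit 134) (.leaf (nat_lit 36) (nat_lit 0) [nat_lit 1, nat_lit 0, nat_lit 1, nat_lit 0, nat_lit 1, nat_lit 0, nat_lit 1, nat_lit 0, nat_lit 1, nat_lit 0, nat_lit 1]) (.node (nat_lit 135) (.leaf (nat_lit 37) (nat_lit 1) [nat_lit 0, nat_lit 1, nat_lit 0, nat_lit 1, nat_lit 0, nat_lit 1, nat_lit 0, nat_lit 1, nat_lit 0, nat_lit 1, nat_lit 0]) (.leaf (nat_lit 36) (nat_lit 0) [nat_lit 1, nat_lit 0, nat_lit 1, nat_lit 0, nat_lit 1, nat_lit 0, nat_lit 1, nat_lit 0, nat_lit 1, nat_lit 0, nat_lit 1])))) (.node (nat_lit 138) (.node (nat_lit 137) (.leaf (nat_lit 37) (nat_lit 1) [nat_lit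 0, nat_lit 1, nat_lit 0, nat_lit 1, nat_lit 0, nat_lit 1, nat_lit 0, nat_lit 1, nat_lit 0, nat_lit 1, nat_lit 0]) (.leaf (nat_lit 36) (nat_lit 0) [nat_lit 1, nat_lit 0, nat_lit 1, nat_lit 0, nat_lit 1, nat_lit 0, nat_lit 1, nat_lit 0, nat_lit 1, nat_lit 0, nat_lit 1])) (.node (nat_lit 139) (.leaf (nat_lit 37) (nat_lit 1) [nat_lit 0, nat_lit 1, nat_lit 0, nat_lit 1, nat_lit 0, nat_lit 1, nat_lit 0, nat_lit 1, nat_lit 0, nat_lit 1, nat_lit 0]) (.node (nat_lit 140) (.leaf (nat_lit 36) (nat_lit 0) [nat_lit 1, nat_lit 0, nat_lit 1, nat_lit 0, nat_lit 1, nat_lit 0, nat_lit 1, nat_lit 0, nat_lit 1, nat_lit 0, nat_lit 1]) (.leaf (nat_lit 37) (nat_lit 1) [nat_lit 0, nat_lit 1, nat_lit 0, nat_lit 1, nat_lit 0, nat_lit 1, nat_lit 0, nat_lit 1, nat_lit 0, nat_lit 1, nat_lit 0])))))) (.node (nat_lit 151) (.node (nat_lit 146) (.node (nat_lit 143) (.node (nat_lit 142) (.leaf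 (nat_lit 36) (nat_lit 0) [nat_lit 1, nat_lit 0, nat_lit 1, nat_lit 0, nat_lit 1, nat_lit 0, nat_lit 1, nat_lit 0, nat_lit 1, nat_lit 0, nat_lit 1]) (.leaf (nat_lit 37) (nat_lit 1) [nat_lit 0, nat_lit 1, nat_lit 0, nat_lit 1, nat_lit 0, nat_lit 1, nat_lit 0, nat_lit 1, nat_lit 0, nat_lit 1, nat_lit 0])) (.node (nat_lit 144) (.leaf (nat_lit 36) (nat_lit 0) [nat_lit 1, nat_lit 0, nat_lit 1, nat_lit 0, nat_lit 1, nat_lit 0, nat_lit 1, nat_lit 0, nat_lit 1, nat_lit 0, nat_lit 1]) (.node (nat_lit 145) (.leaf (nat_lit 36) (nat_lit 0) [nat_lit 1, nat_lit 0, nat_lit 1, nat_lit 0, nat_lit 1, nat_lit 0, nat_lit 1, nat_lit 0, nat_lit 1, nat_lit 0, nat_lit 1]) (.leaf (nat_lit 37) (nat_lit 1) [nat_lit 0, nat_lit 1, nat_lit 0, nat_lit 1, nat_lit 0, nat_lit 1, nat_lit 0, nat_lit 1, nat_lit 0, nat_lit 1, nat_lit 0])))) (.node (nat_lit 148) (.node (nat_lit 147) (.leaf (nat_lit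 36) (nat_lit 0) [nat_lit 1, nat_lit 0, nat_lit 1, nat_lit 0, nat_lit 1, nat_lit 0, nat_lit 1, nat_lit 0, nat_lit 1, nat_lit 0, nat_lit 1]) (.leaf (nat_lit 37) (nat_lit 1) [nat_lit 0, nat_lit 1, nat_lit 0, nat_lit 1, nat_lit 0, nat_lit 1, nat_lit 0, nat_lit 1, nat_lit 0, nat_lit 1, nat_lit 0])) (.node (nat_lit 149) (.leaf (nat_lit 36) (nat_lit 0) [nat_lit 1, nat_lit 0, nat_lit 1, nat_lit 0, nat_lit 1, nat_lit 0, nat_lit 1, nat_lit 0, nat_lit 1, nat_lit 0, nat_lit 1]) (.node (nat_lit 150) (.leaf (nat_lit 37) (nat_lit 1) [nat_lit 0, nat_lit 1, nat_lit 0, nat_lit 1, nat_lit 0, nat_lit 1, nat_lit 0, nat_lit 1, nat_lit 0, nat_lit 1, nat_lit 0]) (.leaf (nat_lit 36) (nat_lit 0) [nat_lit 1, nat_lit 0, nat_lit 1, nat_lit 0, nat_lit 1, nat_lit 0, nat_lit 1, nat_lit 0, nat_lit 1, nat_lit 0, nat_lit 1]))))) (.node (nat_lit 156) (.node (nat_lit 153) (.node (nat_lit 152) (.leaf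 (nat_lit 37) (nat_lit 1) [nat_lit 0, nat_lit 1, nat_lit 0, nat_lit 1, nat_lit 0, nat_lit 1, nat_lit 0, nat_lit 1, nat_lit 0, nat_lit 1, nat_lit 0]) (.leaf (nat_lit 36) (nat_lit 0) [nat_lit 1, nat_lit 0, nat_lit 1, nat_lit 0, nat_lit 1, nat_lit 0, nat_lit 1, nat_lit 0, nat_lit 1, nat_lit 0, nat_lit 1])) (.node (nat_lit 154) (.leaf (nat_lit 37) (nat_lit 1) [nat_lit 0, nat_lit 1, nat_lit 0, nat_lit 1, nat_lit 0, nat_lit 1, nat_lit 0, nat_lit 1, nat_lit 0, nat_lit 1, nat_lit 0]) (.node (nat_lit 155) (.leaf (nat_lit 36) (nat_lit 0) [nat_lit 1, nat_lit 0, nat_lit 1, nat_lit 0, nat_lit 1, nat_lit 0, nat_lit 1, nat_lit 0, nat_lit 1, nat_lit 0, nat_lit 1]) (.leaf (nat_lit 37) (nat_lit 1) [nat_lit 0, nat_lit 1, nat_lit 0, nat_lit 1, nat_lit 0, nat_lit 1, nat_lit 0, nat_lit 1, nat_lit 0, nat_lit 1, nat_lit 0])))) (.node (nat_lit 159) (.node (nat_lit 157) (.leaf (nat_lit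 156) (nat_lit 1) [nat_lit 0, nat_lit 1, nat_lit 2, nat_lit 1, nat_lit 0, nat_lit 1, nat_lit 2, nat_lit 1, nat_lit 0, nat_lit 1, nat_lit 2]) (.node (nat_lit 158) (.leaf (nat_lit 157) (nat_lit 2) [nat_lit 1, nat_lit 0, nat_lit 1, nat_lit 2, nat_lit 1, nat_lit 0, nat_lit 1, nat_lit 2, nat_lit 1, nat_lit 0, nat_lit 1]) (.leaf (nat_lit 158) (nat_lit 1) [nat_lit 2, nat_lit 1, nat_lit 0, nat_lit 1, nat_lit 2, nat_lit 1, nat_lit 0, nat_lit 1, nat_lit 2, nat_lit 1, nat_lit 0]))) (.node (nat_lit 160) (.leaf (nat_lit 159) (nat_lit 0) [nat_lit 1, nat_lit 2, nat_lit 1, nat_lit 0, nat_lit 1, nat_lit 2, nat_lit 1, nat_lit 0, nat_lit 1, nat_lit 2, nat_lit 1]) (.node (nat_lit 161) (.leaf (nat_lit 156) (nat_lit 1) [nat_lit 0, nat_lit 1, nat_lit 2, nat_lit 1, nat_lit 0, nat_lit 1, nat_lit 2, nat_lit 1, nat_lit 0, nat_lit 1, nat_lit 2]) (.leaf (nat_lit 157) (nat_lit 2) [nat_lit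 1, nat_lit 0, nat_lit 1, nat_lit 2, nat_lit 1, nat_lit 0, nat_lit 1, nat_lit 2, nat_lit 1, nat_lit 0, nat_lit 1]))))))))) (.node (nat_lit 243) (.node (nat_lit 202) (.node (nat_lit 182) (.node (nat_lit 172) (.node (nat_lit 167) (.node (nat_lit 164) (.node (nat_lit 163) (.leaf (nat_lit 158) (nat_lit 1) [nat_lit 2, nat_lit 1, nat_lit 0, nat_lit 1, nat_lit 2, nat_lit 1, nat_lit 0, nat_lit 1, nat_lit 2, nat_lit 1, nat_lit 0]) (.leaf (nat_lit 159) (nat_lit 0) [nat_lit 1, nat_lit 2, nat_lit 1, nat_lit 0, nat_lit 1, nat_lit 2, nat_lit 1, nat_lit 0, nat_lit 1, nat_lit 2, nat_lit 1])) (.node (nat_lit 165) (.leaf (nat_lit 156) (nat_lit 1) [nat_lit 0, nat_lit 1, nat_lit 2, nat_lit 1, nat_lit 0, nat_lit 1, nat_lit 2, nat_lit 1, nat_lit 0, nat_lit 1, nat_lit 2]) (.node (nat_lit 166) (.leaf (nat_lit 157) (nat_lit 2) [nat_lit 1, nat_lit 0, nat_lit 1, nat_lit 2, nat_lit 1, nat_lit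 0, nat_lit 1, nat_lit 2, nat_lit 1, nat_lit 0, nat_lit 1]) (.leaf (nat_lit 158) (nat_lit 1) [nat_lit 2, nat_lit 1, nat_lit 0, nat_lit 1, nat_lit 2, nat_lit 1, nat_lit 0, nat_lit 1, nat_lit 2, nat_lit 1, nat_lit 0])))) (.node (nat_lit 169) (.node (nat_lit 168) (.leaf (nat_lit 159) (nat_lit 0) [nat_lit 1, nat_lit 2, nat_lit 1, nat_lit 0, nat_lit 1, nat_lit 2, nat_lit 1, nat_lit 0, nat_lit 1, nat_lit 2, nat_lit 1]) (.leaf (nat_lit 159) (nat_lit 0) [nat_lit 1, nat_lit 2, nat_lit 1, nat_lit 0, nat_lit 1, nat_lit 2, nat_lit 1, nat_lit 0, nat_lit 1, nat_lit 2, nat_lit 1])) (.node (nat_lit 170) (.leaf (nat_lit 156) (nat_lit 1) [nat_lit 0, nat_lit 1, nat_lit 2, nat_lit 1, nat_lit 0, nat_lit 1, nat_lit 2, nat_lit 1, nat_lit 0, nat_lit 1, nat_lit 2]) (.node (nat_lit 171) (.leaf (nat_lit 157) (nat_lit 2) [nat_lit 1, nat_lit 0, nat_lit 1, nat_lit 2, nat_lit 1, nat_lit 0,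 nat_lit 1, nat_lit 2, nat_lit 1, nat_lit 0, nat_lit 1]) (.leaf (nat_lit 158) (nat_lit 1) [nat_lit 2, nat_lit 1, nat_lit 0, nat_lit 1, nat_lit 2, nat_lit 1, nat_lit 0, nat_lit 1, nat_lit 2, nat_lit 1, nat_lit 0]))))) (.node (nat_lit 177) (.node (nat_lit 174) (.node (nat_lit 173) (.leaf (nat_lit 159) (nat_lit 0) [nat_lit 1, nat_lit 2, nat_lit 1, nat_lit 0, nat_lit 1, nat_lit 2, nat_lit 1, nat_lit 0, nat_lit 1, nat_lit 2, nat_lit 1]) (.leaf (nat_lit 156) (nat_lit 1) [nat_lit 0, nat_lit 1, nat_lit 2, nat_lit 1, nat_lit 0, nat_lit 1, nat_lit 2, nat_lit 1, nat_lit 0, nat_lit 1, nat_lit 2])) (.node (nat_lit 175) (.leaf (nat_lit 157) (nat_lit 2) [nat_lit 1, nat_lit 0, nat_lit 1, nat_lit 2, nat_lit 1, nat_lit 0, nat_lit 1, nat_lit 2, nat_lit 1, nat_lit 0, nat_lit 1]) (.node (nat_lit 176) (.leaf (nat_lit 158) (nat_lit 1) [nat_lit 2, nat_lit 1, nat_lit 0, nat_lit 1, nat_lit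 2, nat_lit 1, nat_lit 0, nat_lit 1, nat_lit 2, nat_lit 1, nat_lit 0]) (.leaf (nat_lit 159) (nat_lit 0) [nat_lit 1, nat_lit 2, nat_lit 1, nat_lit 0, nat_lit 1, nat_lit 2, nat_lit 1, nat_lit 0, nat_lit 1, nat_lit 2, nat_lit 1])))) (.node (nat_lit 179) (.node (nat_lit 178) (.leaf (nat_lit 156) (nat_lit 1) [nat_lit 0, nat_lit 1, nat_lit 2, nat_lit 1, nat_lit 0, nat_lit 1, nat_lit 2, nat_lit 1, nat_lit 0, nat_lit 1, nat_lit 2]) (.leaf (nat_lit 157) (nat_lit 2) [nat_lit 1, nat_lit 0, nat_lit 1, nat_lit 2, nat_lit 1, nat_lit 0, nat_lit 1, nat_lit 2, nat_lit 1, nat_lit 0, nat_lit 1])) (.node (nat_lit 180) (.leaf (nat_lit 158) (nat_lit 1) [nat_lit 2, nat_lit 1, nat_lit 0, nat_lit 1, nat_lit 2, nat_lit 1, nat_lit 0, nat_lit 1, nat_lit 2, nat_lit 1, nat_lit 0]) (.node (nat_lit 181) (.leaf (nat_lit 158) (nat_lit 1) [nat_lit 2, nat_lit 1, nat_lit 0, nat_lit 1, nat_lit 2,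 nat_lit 1, nat_lit 0, nat_lit 1, nat_lit 2, nat_lit 1, nat_lit 0]) (.leaf (nat_lit 159) (nat_lit 0) [nat_lit 1, nat_lit 2, nat_lit 1, nat_lit 0, nat_lit 1, nat_lit 2, nat_lit 1, nat_lit 0, nat_lit 1, nat_lit 2, nat_lit 1])))))) (.node (nat_lit 192) (.node (nat_lit 187) (.node (nat_lit 184) (.node (nat_lit 183) (.leaf (nat_lit 156) (nat_lit 1) [nat_lit 0, nat_lit 1, nat_lit 2, nat_lit 1, nat_lit 0, nat_lit 1, nat_lit 2, nat_lit 1, nat_lit 0, nat_lit 1, nat_lit 2]) (.leaf (nat_lit 157) (nat_lit 2) [nat_lit 1, nat_lit 0, nat_lit 1, nat_lit 2, nat_lit 1, nat_lit 0, nat_lit 1, nat_lit 2, nat_lit 1, nat_lit 0, nat_lit 1])) (.node (nat_lit 185) (.leaf (nat_lit 158) (nat_lit 1) [nat_lit 2, nat_lit 1, nat_lit 0, nat_lit 1, nat_lit 2, nat_lit 1, nat_lit 0, nat_lit 1, nat_lit 2, nat_lit 1, nat_lit 0]) (.node (nat_lit 186) (.leaf (nat_lit 159) (nat_lit 0) [nat_lit 1, nat_lit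 2, nat_lit 1, nat_lit 0, nat_lit 1, nat_lit 2, nat_lit 1, nat_lit 0, nat_lit 1, nat_lit 2, nat_lit 1]) (.leaf (nat_lit 156) (nat_lit 1) [nat_lit 0, nat_lit 1, nat_lit 2, nat_lit 1, nat_lit 0, nat_lit 1, nat_lit 2, nat_lit 1, nat_lit 0, nat_lit 1, nat_lit 2])))) (.node (nat_lit 189) (.node (nat_lit 188) (.leaf (nat_lit 157) (nat_lit 2) [nat_lit 1, nat_lit 0, nat_lit 1, nat_lit 2, nat_lit 1, nat_lit 0, nat_lit 1, nat_lit 2, nat_lit 1, nat_lit 0, nat_lit 1]) (.leaf (nat_lit 158) (nat_lit 1) [nat_lit 2, nat_lit 1, nat_lit 0, nat_lit 1, nat_lit 2, nat_lit 1, nat_lit 0, nat_lit 1, nat_lit 2, nat_lit 1, nat_lit 0])) (.node (nat_lit 190) (.leaf (nat_lit 159) (nat_lit 0) [nat_lit 1, nat_lit 2, nat_lit 1, nat_lit 0, nat_lit 1, nat_lit 2, nat_lit 1, nat_lit 0, nat_lit 1, nat_lit 2, nat_lit 1]) (.node (nat_lit 191) (.leaf (nat_lit 156) (nat_lit 1) [nat_lit 0, nat_lit 1,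 nat_lit 2, nat_lit 1, nat_lit 0, nat_lit 1, nat_lit 2, nat_lit 1, nat_lit 0, nat_lit 1, nat_lit 2]) (.leaf (nat_lit 157) (nat_lit 2) [nat_lit 1, nat_lit 0, nat_lit 1, nat_lit 2, nat_lit 1, nat_lit 0, nat_lit 1, nat_lit 2, nat_lit 1, nat_lit 0, nat_lit 1]))))) (.node (nat_lit 197) (.node (nat_lit 194) (.node (nat_lit 193) (.leaf (nat_lit 157) (nat_lit 2) [nat_lit 1, nat_lit 0, nat_lit 1, nat_lit 2, nat_lit 1, nat_lit 0, nat_lit 1, nat_lit 2, nat_lit 1, nat_lit 0, nat_lit 1]) (.leaf (nat_lit 158) (nat_lit 1) [nat_lit 2, nat_lit 1, nat_lit 0, nat_lit 1, nat_lit 2, nat_lit 1, nat_lit 0, nat_lit 1, nat_lit 2, nat_lit 1, nat_lit 0])) (.node (nat_lit 195) (.leaf (nat_lit 159) (nat_lit 0) [nat_lit 1, nat_lit 2, nat_lit 1, nat_lit 0, nat_lit 1, nat_lit 2, nat_lit 1, nat_lit 0, nat_lit 1, nat_lit 2, nat_lit 1]) (.node (nat_lit 196) (.leaf (nat_lit 156) (nat_lit 1) [nat_lit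 0, nat_lit 1, nat_lit 2, nat_lit 1, nat_lit 0, nat_lit 1, nat_lit 2, nat_lit 1, nat_lit 0, nat_lit 1, nat_lit 2]) (.leaf (nat_lit 157) (nat_lit 2) [nat_lit 1, nat_lit 0, nat_lit 1, nat_lit 2, nat_lit 1, nat_lit 0, nat_lit 1, nat_lit 2, nat_lit 1, nat_lit 0, nat_lit 1])))) (.node (nat_lit 199) (.node (nat_lit 198) (.leaf (nat_lit 158) (nat_lit 1) [nat_lit 2, nat_lit 1, nat_lit 0, nat_lit 1, nat_lit 2, nat_lit 1, nat_lit 0, nat_lit 1, nat_lit 2, nat_lit 1, nat_lit 0]) (.leaf (nat_lit 159) (nat_lit 0) [nat_lit 1, nat_lit 2, nat_lit 1, nat_lit 0, nat_lit 1, nat_lit 2, nat_lit 1, nat_lit 0, nat_lit 1, nat_lit 2, nat_lit 1])) (.node (nat_lit 200) (.leaf (nat_lit 156) (nat_lit 1) [nat_lit 0, nat_lit 1, nat_lit 2, nat_lit 1, nat_lit 0, nat_lit 1, nat_lit 2, nat_lit 1, nat_lit 0, nat_lit 1, nat_lit 2]) (.node (nat_lit 201) (.leaf (nat_lit 157) (nat_lit 2) [nat_lit 1,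 nat_lit 0, nat_lit 1, nat_lit 2, nat_lit 1, nat_lit 0, nat_lit 1, nat_lit 2, nat_lit 1, nat_lit 0, nat_lit 1]) (.leaf (nat_lit 158) (nat_lit 1) [nat_lit 2, nat_lit 1, nat_lit 0, nat_lit 1, nat_lit 2, nat_lit 1, nat_lit 0, nat_lit 1, nat_lit 2, nat_lit 1, nat_lit 0]))))))) (.node (nat_lit 222) (.node (nat_lit 212) (.node (nat_lit 207) (.node (nat_lit 204) (.node (nat_lit 203) (.leaf (nat_lit 159) (nat_lit 0) [nat_lit 1, nat_lit 2, nat_lit 1, nat_lit 0, nat_lit 1, nat_lit 2, nat_lit 1, nat_lit 0, nat_lit 1, nat_lit 2, nat_lit 1]) (.leaf (nat_lit 156) (nat_lit 1) [nat_lit 0, nat_lit 1, nat_lit 2, nat_lit 1, nat_lit 0, nat_lit 1, nat_lit 2, nat_lit 1, nat_lit 0, nat_lit 1, nat_lit 2])) (.node (nat_lit 205) (.leaf (nat_lit 204) (nat_lit 1) [nat_lit 2, nat_lit 1, nat_lit 2, nat_lit 1, nat_lit 2, nat_lit 1, nat_lit 2, nat_lit 1, nat_lit 2, nat_lit 1, nat_lit 2]) (.node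 (nat_lit 206) (.leaf (nat_lit 205) (nat_lit 2) [nat_lit 1, nat_lit 2, nat_lit 1, nat_lit 2, nat_lit 1, nat_lit 2, nat_lit 1, nat_lit 2, nat_lit 1, nat_lit 2, nat_lit 1]) (.leaf (nat_lit 204) (nat_lit 1) [nat_lit 2, nat_lit 1, nat_lit 2, nat_lit 1, nat_lit 2, nat_lit 1, nat_lit 2, nat_lit 1, nat_lit 2, nat_lit 1, nat_lit 2])))) (.node (nat_lit 209) (.node (nat_lit 208) (.leaf (nat_lit 205) (nat_lit 2) [nat_lit 1, nat_lit 2, nat_lit 1, nat_lit 2, nat_lit 1, nat_lit 2, nat_lit 1, nat_lit 2, nat_lit 1, nat_lit 2, nat_lit 1]) (.leaf (nat_lit 204) (nat_lit 1) [nat_lit 2, nat_lit 1, nat_lit 2, nat_lit 1, nat_lit 2, nat_lit 1, nat_lit 2, nat_lit 1, nat_lit 2, nat_lit 1, nat_lit 2])) (.node (nat_lit 210) (.leaf (nat_lit 205) (nat_lit 2) [nat_lit 1, nat_lit 2, nat_lit 1, nat_lit 2, nat_lit 1, nat_lit 2, nat_lit 1, nat_lit 2, nat_lit 1, nat_lit 2, nat_lit 1]) (.node (nat_lit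 211) (.leaf (nat_lit 204) (nat_lit 1) [nat_lit 2, nat_lit 1, nat_lit 2, nat_lit 1, nat_lit 2, nat_lit 1, nat_lit 2, nat_lit 1, nat_lit 2, nat_lit 1, nat_lit 2]) (.leaf (nat_lit 205) (nat_lit 2) [nat_lit 1, nat_lit 2, nat_lit 1, nat_lit 2, nat_lit 1, nat_lit 2, nat_lit 1, nat_lit 2, nat_lit 1, nat_lit 2, nat_lit 1]))))) (.node (nat_lit 217) (.node (nat_lit 214) (.node (nat_lit 213) (.leaf (nat_lit 204) (nat_lit 1) [nat_lit 2, nat_lit 1, nat_lit 2, nat_lit 1, nat_lit 2, nat_lit 1, nat_lit 2, nat_lit 1, nat_lit 2, nat_lit 1, nat_lit 2]) (.leaf (nat_lit 205) (nat_lit 2) [nat_lit 1, nat_lit 2, nat_lit 1, nat_lit 2, nat_lit 1, nat_lit 2, nat_lit 1, nat_lit 2, nat_lit 1, nat_lit 2, nat_lit 1])) (.node (nat_lit 215) (.leaf (nat_lit 204) (nat_lit 1) [nat_lit 2, nat_lit 1, nat_lit 2, nat_lit 1, nat_lit 2, nat_lit 1, nat_lit 2, nat_lit 1, nat_lit 2, nat_lit 1, nat_lit 2])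 (.node (nat_lit 216) (.leaf (nat_lit 205) (nat_lit 2) [nat_lit 1, nat_lit 2, nat_lit 1, nat_lit 2, nat_lit 1, nat_lit 2, nat_lit 1, nat_lit 2, nat_lit 1, nat_lit 2, nat_lit 1]) (.leaf (nat_lit 205) (nat_lit 2) [nat_lit 1, nat_lit 2, nat_lit 1, nat_lit 2, nat_lit 1, nat_lit 2, nat_lit 1, nat_lit 2, nat_lit 1, nat_lit 2, nat_lit 1])))) (.node (nat_lit 219) (.node (nat_lit 218) (.leaf (nat_lit 204) (nat_lit 1) [nat_lit 2, nat_lit 1, nat_lit 2, nat_lit 1, nat_lit 2, nat_lit 1, nat_lit 2, nat_lit 1, nat_lit 2, nat_lit 1, nat_lit 2]) (.leaf (nat_lit 205) (nat_lit 2) [nat_lit 1, nat_lit 2, nat_lit 1, nat_lit 2, nat_lit 1, nat_lit 2, nat_lit 1, nat_lit 2, nat_lit 1, nat_lit 2, nat_lit 1])) (.node (nat_lit 220) (.leaf (nat_lit 204) (nat_lit 1) [nat_lit 2, nat_lit 1, nat_lit 2, nat_lit 1, nat_lit 2, nat_lit 1, nat_lit 2, nat_lit 1, nat_lit 2, nat_lit 1, nat_lit 2]) (.node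 (nat_lit 221) (.leaf (nat_lit 205) (nat_lit 2) [nat_lit 1, nat_lit 2, nat_lit 1, nat_lit 2, nat_lit 1, nat_lit 2, nat_lit 1, nat_lit 2, nat_lit 1, nat_lit 2, nat_lit 1]) (.leaf (nat_lit 204) (nat_lit 1) [nat_lit 2, nat_lit 1, nat_lit 2, nat_lit 1, nat_lit 2, nat_lit 1, nat_lit 2, nat_lit 1, nat_lit 2, nat_lit 1, nat_lit 2])))))) (.node (nat_lit 232) (.node (nat_lit 227) (.node (nat_lit 224) (.node (nat_lit 223) (.leaf (nat_lit 205) (nat_lit 2) [nat_lit 1, nat_lit 2, nat_lit 1, nat_lit 2, nat_lit 1, nat_lit 2, nat_lit 1, nat_lit 2, nat_lit 1, nat_lit 2, nat_lit 1]) (.leaf (nat_lit 204) (nat_lit 1) [nat_lit 2, nat_lit 1, nat_lit 2, nat_lit 1, nat_lit 2, nat_lit 1, nat_lit 2, nat_lit 1, nat_lit 2, nat_lit 1, nat_lit 2])) (.node (nat_lit 225) (.leaf (nat_lit 205) (nat_lit 2) [nat_lit 1, nat_lit 2, nat_lit 1, nat_lit 2, nat_lit 1, nat_lit 2, nat_lit 1, nat_lit 2,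 nat_lit 1, nat_lit 2, nat_lit 1]) (.node (nat_lit 226) (.leaf (nat_lit 204) (nat_lit 1) [nat_lit 2, nat_lit 1, nat_lit 2, nat_lit 1, nat_lit 2, nat_lit 1, nat_lit 2, nat_lit 1, nat_lit 2, nat_lit 1, nat_lit 2]) (.leaf (nat_lit 205) (nat_lit 2) [nat_lit 1, nat_lit 2, nat_lit 1, nat_lit 2, nat_lit 1, nat_lit 2, nat_lit 1, nat_lit 2, nat_lit 1, nat_lit 2, nat_lit 1])))) (.node (nat_lit 229) (.node (nat_lit 228) (.leaf (nat_lit 204) (nat_lit 1) [nat_lit 2, nat_lit 1, nat_lit 2, nat_lit 1, nat_lit 2, nat_lit 1, nat_lit 2, nat_lit 1, nat_lit 2, nat_lit 1, nat_lit 2]) (.leaf (nat_lit 109) (nat_lit 2) [nat_lit 0, nat_lit 2, nat_lit 0, nat_lit 2, nat_lit 0, nat_lit 2, nat_lit 0, nat_lit 2, nat_lit 0, nat_lit 2, nat_lit 0])) (.node (nat_lit 230) (.leaf (nat_lit 108) (nat_lit 0) [nat_lit 2, nat_lit 0, nat_lit 2, nat_lit 0, nat_lit 2, nat_lit 0, nat_lit 2, nat_lit 0, nat_lit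 2, nat_lit 0, nat_lit 2]) (.node (nat_lit 231) (.leaf (nat_lit 109) (nat_lit 2) [nat_lit 0, nat_lit 2, nat_lit 0, nat_lit 2, nat_lit 0, nat_lit 2, nat_lit 0, nat_lit 2, nat_lit 0, nat_lit 2, nat_lit 0]) (.leaf (nat_lit 108) (nat_lit 0) [nat_lit 2, nat_lit 0, nat_lit 2, nat_lit 0, nat_lit 2, nat_lit 0, nat_lit 2, nat_lit 0, nat_lit 2, nat_lit 0, nat_lit 2]))))) (.node (nat_lit 237) (.node (nat_lit 234) (.node (nat_lit 233) (.leaf (nat_lit 109) (nat_lit 2) [nat_lit 0, nat_lit 2, nat_lit 0, nat_lit 2, nat_lit 0, nat_lit 2, nat_lit 0, nat_lit 2, nat_lit 0, nat_lit 2, nat_lit 0]) (.leaf (nat_lit 108) (nat_lit 0) [nat_lit 2, nat_lit 0, nat_lit 2, nat_lit 0, nat_lit 2, nat_lit 0, nat_lit 2, nat_lit 0, nat_lit 2, nat_lit 0, nat_lit 2])) (.node (nat_lit 235) (.leaf (nat_lit 109) (nat_lit 2) [nat_lit 0, nat_lit 2, nat_lit 0, nat_lit 2, nat_lit 0, nat_lit 2, nat_lit 0,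 nat_lit 2, nat_lit 0, nat_lit 2, nat_lit 0]) (.node (nat_lit 236) (.leaf (nat_lit 108) (nat_lit 0) [nat_lit 2, nat_lit 0, nat_lit 2, nat_lit 0, nat_lit 2, nat_lit 0, nat_lit 2, nat_lit 0, nat_lit 2, nat_lit 0, nat_lit 2]) (.leaf (nat_lit 109) (nat_lit 2) [nat_lit 0, nat_lit 2, nat_lit 0, nat_lit 2, nat_lit 0, nat_lit 2, nat_lit 0, nat_lit 2, nat_lit 0, nat_lit 2, nat_lit 0])))) (.node (nat_lit 240) (.node (nat_lit 238) (.leaf (nat_lit 108) (nat_lit 0) [nat_lit 2, nat_lit 0, nat_lit 2, nat_lit 0, nat_lit 2, nat_lit 0, nat_lit 2, nat_lit 0, nat_lit 2, nat_lit 0, nat_lit 2]) (.node (nat_lit 239) (.leaf (nat_lit 109) (nat_lit 2) [nat_lit 0, nat_lit 2, nat_lit 0, nat_lit 2, nat_lit 0, nat_lit 2, nat_lit 0, nat_lit 2, nat_lit 0, nat_lit 2, nat_lit 0]) (.leaf (nat_lit 108) (nat_lit 0) [nat_lit 2, nat_lit 0, nat_lit 2, nat_lit 0, nat_lit 2, nat_lit 0, nat_lit 2, nat_lit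 0, nat_lit 2, nat_lit 0, nat_lit 2]))) (.node (nat_lit 241) (.leaf (nat_lit 108) (nat_lit 0) [nat_lit 2, nat_lit 0, nat_lit 2, nat_lit 0, nat_lit 2, nat_lit 0, nat_lit 2, nat_lit 0, nat_lit 2, nat_lit 0, nat_lit 2]) (.node (nat_lit 242) (.leaf (nat_lit 109) (nat_lit 2) [nat_lit 0, nat_lit 2, nat_lit 0, nat_lit 2, nat_lit 0, nat_lit 2, nat_lit 0, nat_lit 2, nat_lit 0, nat_lit 2, nat_lit 0]) (.leaf (nat_lit 108) (nat_lit 0) [nat_lit 2, nat_lit 0, nat_lit 2, nat_lit 0, nat_lit 2, nat_lit 0, nat_lit 2, nat_lit 0, nat_lit 2, nat_lit 0, nat_lit 2])))))))) (.node (nat_lit 283) (.node (nat_lit 263) (.node (nat_lit 253) (.node (nat_lit 248) (.node (nat_lit 245) (.node (nat_lit 244) (.leaf (nat_lit 109) (nat_lit 2) [nat_lit 0, nat_lit 2, nat_lit 0, nat_lit 2, nat_lit 0, nat_lit 2, nat_lit 0, nat_lit 2, nat_lit 0, nat_lit 2, nat_lit 0]) (.leaf (nat_lit 108) (nat_lit 0)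 [nat_lit 2, nat_lit 0, nat_lit 2, nat_lit 0, nat_lit 2, nat_lit 0, nat_lit 2, nat_lit 0, nat_lit 2, nat_lit 0, nat_lit 2])) (.node (nat_lit 246) (.leaf (nat_lit 109) (nat_lit 2) [nat_lit 0, nat_lit 2, nat_lit 0, nat_lit 2, nat_lit 0, nat_lit 2, nat_lit 0, nat_lit 2, nat_lit 0, nat_lit 2, nat_lit 0]) (.node (nat_lit 247) (.leaf (nat_lit 108) (nat_lit 0) [nat_lit 2, nat_lit 0, nat_lit 2, nat_lit 0, nat_lit 2, nat_lit 0, nat_lit 2, nat_lit 0, nat_lit 2, nat_lit 0, nat_lit 2]) (.leaf (nat_lit 109) (nat_lit 2) [nat_lit 0, nat_lit 2, nat_lit 0, nat_lit 2, nat_lit 0, nat_lit 2, nat_lit 0, nat_lit 2, nat_lit 0, nat_lit 2, nat_lit 0])))) (.node (nat_lit 250) (.node (nat_lit 249) (.leaf (nat_lit 108) (nat_lit 0) [nat_lit 2, nat_lit 0, nat_lit 2, nat_lit 0, nat_lit 2, nat_lit 0, nat_lit 2, nat_lit 0, nat_lit 2, nat_lit 0, nat_lit 2]) (.leaf (nat_lit 109) (nat_lit 2) [nat_lit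 0, nat_lit 2, nat_lit 0, nat_lit 2, nat_lit 0, nat_lit 2, nat_lit 0, nat_lit 2, nat_lit 0, nat_lit 2, nat_lit 0])) (.node (nat_lit 251) (.leaf (nat_lit 108) (nat_lit 0) [nat_lit 2, nat_lit 0, nat_lit 2, nat_lit 0, nat_lit 2, nat_lit 0, nat_lit 2, nat_lit 0, nat_lit 2, nat_lit 0, nat_lit 2]) (.node (nat_lit 252) (.leaf (nat_lit 109) (nat_lit 2) [nat_lit 0, nat_lit 2, nat_lit 0, nat_lit 2, nat_lit 0, nat_lit 2, nat_lit 0, nat_lit 2, nat_lit 0, nat_lit 2, nat_lit 0]) (.leaf (nat_lit 252) (nat_lit 2) [nat_lit 0, nat_lit 2, nat_lit 1, nat_lit 2, nat_lit 0, nat_lit 2, nat_lit 1, nat_lit 2, nat_lit 0, nat_lit 2, nat_lit 1]))))) (.node (nat_lit 258) (.node (nat_lit 255) (.node (nat_lit 254) (.leaf (nat_lit 253) (nat_lit 1) [nat_lit 2, nat_lit 0, nat_lit 2, nat_lit 1, nat_lit 2, nat_lit 0, nat_lit 2, nat_lit 1, nat_lit 2, nat_lit 0, nat_lit 2]) (.leaf (nat_lit 254) (nat_lit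 2) [nat_lit 1, nat_lit 2, nat_lit 0, nat_lit 2, nat_lit 1, nat_lit 2, nat_lit 0, nat_lit 2, nat_lit 1, nat_lit 2, nat_lit 0])) (.node (nat_lit 256) (.leaf (nat_lit 255) (nat_lit 0) [nat_lit 2, nat_lit 1, nat_lit 2, nat_lit 0, nat_lit 2, nat_lit 1, nat_lit 2, nat_lit 0, nat_lit 2, nat_lit 1, nat_lit 2]) (.node (nat_lit 257) (.leaf (nat_lit 252) (nat_lit 2) [nat_lit 0, nat_lit 2, nat_lit 1, nat_lit 2, nat_lit 0, nat_lit 2, nat_lit 1, nat_lit 2, nat_lit 0, nat_lit 2, nat_lit 1]) (.leaf (nat_lit 253) (nat_lit 1) [nat_lit 2, nat_lit 0, nat_lit 2, nat_lit 1, nat_lit 2, nat_lit 0, nat_lit 2, nat_lit 1, nat_lit 2, nat_lit 0, nat_lit 2])))) (.node (nat_lit 260) (.node (nat_lit 259) (.leaf (nat_lit 254) (nat_lit 2) [nat_lit 1, nat_lit 2, nat_lit 0, nat_lit 2, nat_lit 1, nat_lit 2, nat_lit 0, nat_lit 2, nat_lit 1, nat_lit 2, nat_lit 0]) (.leaf (nat_lit 255) (nat_lit 0)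 [nat_lit 2, nat_lit 1, nat_lit 2, nat_lit 0, nat_lit 2, nat_lit 1, nat_lit 2, nat_lit 0, nat_lit 2, nat_lit 1, nat_lit 2])) (.node (nat_lit 261) (.leaf (nat_lit 252) (nat_lit 2) [nat_lit 0, nat_lit 2, nat_lit 1, nat_lit 2, nat_lit 0, nat_lit 2, nat_lit 1, nat_lit 2, nat_lit 0, nat_lit 2, nat_lit 1]) (.node (nat_lit 262) (.leaf (nat_lit 253) (nat_lit 1) [nat_lit 2, nat_lit 0, nat_lit 2, nat_lit 1, nat_lit 2, nat_lit 0, nat_lit 2, nat_lit 1, nat_lit 2, nat_lit 0, nat_lit 2]) (.leaf (nat_lit 254) (nat_lit 2) [nat_lit 1, nat_lit 2, nat_lit 0, nat_lit 2, nat_lit 1, nat_lit 2, nat_lit 0, nat_lit 2, nat_lit 1, nat_lit 2, nat_lit 0])))))) (.node (nat_lit 273) (.node (nat_lit 268) (.node (nat_lit 265) (.node (nat_lit 264) (.leaf (nat_lit 255) (nat_lit 0) [nat_lit 2, nat_lit 1, nat_lit 2, nat_lit 0, nat_lit 2, nat_lit 1, nat_lit 2, nat_lit 0, nat_lit 2, nat_lit 1, nat_lit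 2]) (.leaf (nat_lit 255) (nat_lit 0) [nat_lit 2, nat_lit 1, nat_lit 2, nat_lit 0, nat_lit 2, nat_lit 1, nat_lit 2, nat_lit 0, nat_lit 2, nat_lit 1, nat_lit 2])) (.node (nat_lit 266) (.leaf (nat_lit 252) (nat_lit 2) [nat_lit 0, nat_lit 2, nat_lit 1, nat_lit 2, nat_lit 0, nat_lit 2, nat_lit 1, nat_lit 2, nat_lit 0, nat_lit 2, nat_lit 1]) (.node (nat_lit 267) (.leaf (nat_lit 253) (nat_lit 1) [nat_lit 2, nat_lit 0, nat_lit 2, nat_lit 1, nat_lit 2, nat_lit 0, nat_lit 2, nat_lit 1, nat_lit 2, nat_lit 0, nat_lit 2]) (.leaf (nat_lit 254) (nat_lit 2) [nat_lit 1, nat_lit 2, nat_lit 0, nat_lit 2, nat_lit 1, nat_lit 2, nat_lit 0, nat_lit 2, nat_lit 1, nat_lit 2, nat_lit 0])))) (.node (nat_lit 270) (.node (nat_lit 269) (.leaf (nat_lit 255) (nat_lit 0) [nat_lit 2, nat_lit 1, nat_lit 2, nat_lit 0, nat_lit 2, nat_lit 1, nat_lit 2, nat_lit 0, nat_lit 2, nat_lit 1, nat_lit 2])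 (.leaf (nat_lit 252) (nat_lit 2) [nat_lit 0, nat_lit 2, nat_lit 1, nat_lit 2, nat_lit 0, nat_lit 2, nat_lit 1, nat_lit 2, nat_lit 0, nat_lit 2, nat_lit 1])) (.node (nat_lit 271) (.leaf (nat_lit 253) (nat_lit 1) [nat_lit 2, nat_lit 0, nat_lit 2, nat_lit 1, nat_lit 2, nat_lit 0, nat_lit 2, nat_lit 1, nat_lit 2, nat_lit 0, nat_lit 2]) (.node (nat_lit 272) (.leaf (nat_lit 254) (nat_lit 2) [nat_lit 1, nat_lit 2, nat_lit 0, nat_lit 2, nat_lit 1, nat_lit 2, nat_lit 0, nat_lit 2, nat_lit 1, nat_lit 2, nat_lit 0]) (.leaf (nat_lit 255) (nat_lit 0) [nat_lit 2, nat_lit 1, nat_lit 2, nat_lit 0, nat_lit 2, nat_lit 1, nat_lit 2, nat_lit 0, nat_lit 2, nat_lit 1, nat_lit 2]))))) (.node (nat_lit 278) (.node (nat_lit 275) (.node (nat_lit 274) (.leaf (nat_lit 252) (nat_lit 2) [nat_lit 0, nat_lit 2, nat_lit 1, nat_lit 2, nat_lit 0, nat_lit 2, nat_lit 1, nat_lit 2, nat_lit 0, nat_lit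 2, nat_lit 1]) (.leaf (nat_lit 253) (nat_lit 1) [nat_lit 2, nat_lit 0, nat_lit 2, nat_lit 1, nat_lit 2, nat_lit 0, nat_lit 2, nat_lit 1, nat_lit 2, nat_lit 0, nat_lit 2])) (.node (nat_lit 276) (.leaf (nat_lit 254) (nat_lit 2) [nat_lit 1, nat_lit 2, nat_lit 0, nat_lit 2, nat_lit 1, nat_lit 2, nat_lit 0, nat_lit 2, nat_lit 1, nat_lit 2, nat_lit 0]) (.node (nat_lit 277) (.leaf (nat_lit 254) (nat_lit 2) [nat_lit 1, nat_lit 2, nat_lit 0, nat_lit 2, nat_lit 1, nat_lit 2, nat_lit 0, nat_lit 2, nat_lit 1, nat_lit 2, nat_lit 0]) (.leaf (nat_lit 255) (nat_lit 0) [nat_lit 2, nat_lit 1, nat_lit 2, nat_lit 0, nat_lit 2, nat_lit 1, nat_lit 2, nat_lit 0, nat_lit 2, nat_lit 1, nat_lit 2])))) (.node (nat_lit 280) (.node (nat_lit 279) (.leaf (nat_lit 252) (nat_lit 2) [nat_lit 0, nat_lit 2, nat_lit 1, nat_lit 2, nat_lit 0, nat_lit 2, nat_lit 1, nat_lit 2, nat_lit 0, nat_lit 2,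 nat_lit 1]) (.leaf (nat_lit 253) (nat_lit 1) [nat_lit 2, nat_lit 0, nat_lit 2, nat_lit 1, nat_lit 2, nat_lit 0, nat_lit 2, nat_lit 1, nat_lit 2, nat_lit 0, nat_lit 2])) (.node (nat_lit 281) (.leaf (nat_lit 254) (nat_lit 2) [nat_lit 1, nat_lit 2, nat_lit 0, nat_lit 2, nat_lit 1, nat_lit 2, nat_lit 0, nat_lit 2, nat_lit 1, nat_lit 2, nat_lit 0]) (.node (nat_lit 282) (.leaf (nat_lit 255) (nat_lit 0) [nat_lit 2, nat_lit 1, nat_lit 2, nat_lit 0, nat_lit 2, nat_lit 1, nat_lit 2, nat_lit 0, nat_lit 2, nat_lit 1, nat_lit 2]) (.leaf (nat_lit 252) (nat_lit 2) [nat_lit 0, nat_lit 2, nat_lit 1, nat_lit 2, nat_lit 0, nat_lit 2, nat_lit 1, nat_lit 2, nat_lit 0, nat_lit 2, nat_lit 1]))))))) (.node (nat_lit 303) (.node (nat_lit 293) (.node (nat_lit 288) (.node (nat_lit 285) (.node (nat_lit 284) (.leaf (nat_lit 253) (nat_lit 1) [nat_lit 2, nat_lit 0, nat_lit 2, nat_lit 1, nat_lit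 2, nat_lit 0, nat_lit 2, nat_lit 1, nat_lit 2, nat_lit 0, nat_lit 2]) (.leaf (nat_lit 254) (nat_lit 2) [nat_lit 1, nat_lit 2, nat_lit 0, nat_lit 2, nat_lit 1, nat_lit 2, nat_lit 0, nat_lit 2, nat_lit 1, nat_lit 2, nat_lit 0])) (.node (nat_lit 286) (.leaf (nat_lit 255) (nat_lit 0) [nat_lit 2, nat_lit 1, nat_lit 2, nat_lit 0, nat_lit 2, nat_lit 1, nat_lit 2, nat_lit 0, nat_lit 2, nat_lit 1, nat_lit 2]) (.node (nat_lit 287) (.leaf (nat_lit 252) (nat_lit 2) [nat_lit 0, nat_lit 2, nat_lit 1, nat_lit 2, nat_lit 0, nat_lit 2, nat_lit 1, nat_lit 2, nat_lit 0, nat_lit 2, nat_lit 1]) (.leaf (nat_lit 253) (nat_lit 1) [nat_lit 2, nat_lit 0, nat_lit 2, nat_lit 1, nat_lit 2, nat_lit 0, nat_lit 2, nat_lit 1, nat_lit 2, nat_lit 0, nat_lit 2])))) (.node (nat_lit 290) (.node (nat_lit 289) (.leaf (nat_lit 253) (nat_lit 1) [nat_lit 2, nat_lit 0, nat_lit 2, nat_lit 1, nat_lit 2,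 nat_lit 0, nat_lit 2, nat_lit 1, nat_lit 2, nat_lit 0, nat_lit 2]) (.leaf (nat_lit 254) (nat_lit 2) [nat_lit 1, nat_lit 2, nat_lit 0, nat_lit 2, nat_lit 1, nat_lit 2, nat_lit 0, nat_lit 2, nat_lit 1, nat_lit 2, nat_lit 0])) (.node (nat_lit 291) (.leaf (nat_lit 255) (nat_lit 0) [nat_lit 2, nat_lit 1, nat_lit 2, nat_lit 0, nat_lit 2, nat_lit 1, nat_lit 2, nat_lit 0, nat_lit 2, nat_lit 1, nat_lit 2]) (.node (nat_lit 292) (.leaf (nat_lit 252) (nat_lit 2) [nat_lit 0, nat_lit 2, nat_lit 1, nat_lit 2, nat_lit 0, nat_lit 2, nat_lit 1, nat_lit 2, nat_lit 0, nat_lit 2, nat_lit 1]) (.leaf (nat_lit 253) (nat_lit 1) [nat_lit 2, nat_lit 0, nat_lit 2, nat_lit 1, nat_lit 2, nat_lit 0, nat_lit 2, nat_lit 1, nat_lit 2, nat_lit 0, nat_lit 2]))))) (.node (nat_lit 298) (.node (nat_lit 295) (.node (nat_lit 294) (.leaf (nat_lit 254) (nat_lit 2) [nat_lit 1, nat_lit 2, nat_lit 0, nat_lit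 2, nat_lit 1, nat_lit 2, nat_lit 0, nat_lit 2, nat_lit 1, nat_lit 2, nat_lit 0]) (.leaf (nat_lit 255) (nat_lit 0) [nat_lit 2, nat_lit 1, nat_lit 2, nat_lit 0, nat_lit 2, nat_lit 1, nat_lit 2, nat_lit 0, nat_lit 2, nat_lit 1, nat_lit 2])) (.node (nat_lit 296) (.leaf (nat_lit 252) (nat_lit 2) [nat_lit 0, nat_lit 2, nat_lit 1, nat_lit 2, nat_lit 0, nat_lit 2, nat_lit 1, nat_lit 2, nat_lit 0, nat_lit 2, nat_lit 1]) (.node (nat_lit 297) (.leaf (nat_lit 253) (nat_lit 1) [nat_lit 2, nat_lit 0, nat_lit 2, nat_lit 1, nat_lit 2, nat_lit 0, nat_lit 2, nat_lit 1, nat_lit 2, nat_lit 0, nat_lit 2]) (.leaf (nat_lit 254) (nat_lit 2) [nat_lit 1, nat_lit 2, nat_lit 0, nat_lit 2, nat_lit 1, nat_lit 2, nat_lit 0, nat_lit 2, nat_lit 1, nat_lit 2, nat_lit 0])))) (.node (nat_lit 300) (.node (nat_lit 299) (.leaf (nat_lit 255) (nat_lit 0) [nat_lit 2, nat_lit 1, nat_lit 2, nat_lit 0,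 nat_lit 2, nat_lit 1, nat_lit 2, nat_lit 0, nat_lit 2, nat_lit 1, nat_lit 2]) (.leaf (nat_lit 252) (nat_lit 2) [nat_lit 0, nat_lit 2, nat_lit 1, nat_lit 2, nat_lit 0, nat_lit 2, nat_lit 1, nat_lit 2, nat_lit 0, nat_lit 2, nat_lit 1])) (.node (nat_lit 301) (.leaf (nat_lit 205) (nat_lit 2) [nat_lit 1, nat_lit 2, nat_lit 1, nat_lit 2, nat_lit 1, nat_lit 2, nat_lit 1, nat_lit 2, nat_lit 1, nat_lit 2, nat_lit 1]) (.node (nat_lit 302) (.leaf (nat_lit 204) (nat_lit 1) [nat_lit 2, nat_lit 1, nat_lit 2, nat_lit 1, nat_lit 2, nat_lit 1, nat_lit 2, nat_lit 1, nat_lit 2, nat_lit 1, nat_lit 2]) (.leaf (nat_lit 205) (nat_lit 2) [nat_lit 1, nat_lit 2, nat_lit 1, nat_lit 2, nat_lit 1, nat_lit 2, nat_lit 1, nat_lit 2, nat_lit 1, nat_lit 2, nat_lit 1])))))) (.node (nat_lit 313) (.node (nat_lit 308) (.node (nat_lit 305) (.node (nat_lit 304) (.leaf (nat_lit 204) (nat_lit 1) [nat_lit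 2, nat_lit 1, nat_lit 2, nat_lit 1, nat_lit 2, nat_lit 1, nat_lit 2, nat_lit 1, nat_lit 2, nat_lit 1, nat_lit 2]) (.leaf (nat_lit 205) (nat_lit 2) [nat_lit 1, nat_lit 2, nat_lit 1, nat_lit 2, nat_lit 1, nat_lit 2, nat_lit 1, nat_lit 2, nat_lit 1, nat_lit 2, nat_lit 1])) (.node (nat_lit 306) (.leaf (nat_lit 204) (nat_lit 1) [nat_lit 2, nat_lit 1, nat_lit 2, nat_lit 1, nat_lit 2, nat_lit 1, nat_lit 2, nat_lit 1, nat_lit 2, nat_lit 1, nat_lit 2]) (.node (nat_lit 307) (.leaf (nat_lit 205) (nat_lit 2) [nat_lit 1, nat_lit 2, nat_lit 1, nat_lit 2, nat_lit 1, nat_lit 2, nat_lit 1, nat_lit 2, nat_lit 1, nat_lit 2, nat_lit 1]) (.leaf (nat_lit 204) (nat_lit 1) [nat_lit 2, nat_lit 1, nat_lit 2, nat_lit 1, nat_lit 2, nat_lit 1, nat_lit 2, nat_lit 1, nat_lit 2, nat_lit 1, nat_lit 2])))) (.node (nat_lit 310) (.node (nat_lit 309) (.leaf (nat_lit 205) (nat_lit 2) [nat_lit 1,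 nat_lit 2, nat_lit 1, nat_lit 2, nat_lit 1, nat_lit 2, nat_lit 1, nat_lit 2, nat_lit 1, nat_lit 2, nat_lit 1]) (.leaf (nat_lit 204) (nat_lit 1) [nat_lit 2, nat_lit 1, nat_lit 2, nat_lit 1, nat_lit 2, nat_lit 1, nat_lit 2, nat_lit 1, nat_lit 2, nat_lit 1, nat_lit 2])) (.node (nat_lit 311) (.leaf (nat_lit 205) (nat_lit 2) [nat_lit 1, nat_lit 2, nat_lit 1, nat_lit 2, nat_lit 1, nat_lit 2, nat_lit 1, nat_lit 2, nat_lit 1, nat_lit 2, nat_lit 1]) (.node (nat_lit 312) (.leaf (nat_lit 204) (nat_lit 1) [nat_lit 2, nat_lit 1, nat_lit 2, nat_lit 1, nat_lit 2, nat_lit 1, nat_lit 2, nat_lit 1, nat_lit 2, nat_lit 1, nat_lit 2]) (.leaf (nat_lit 204) (nat_lit 1) [nat_lit 2, nat_lit 1, nat_lit 2, nat_lit 1, nat_lit 2, nat_lit 1, nat_lit 2, nat_lit 1, nat_lit 2, nat_lit 1, nat_lit 2]))))) (.node (nat_lit 318) (.node (nat_lit 315) (.node (nat_lit 314) (.leaf (nat_lit 205) (nat_lit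 2) [nat_lit 1, nat_lit 2, nat_lit 1, nat_lit 2, nat_lit 1, nat_lit 2, nat_lit 1, nat_lit 2, nat_lit 1, nat_lit 2, nat_lit 1]) (.leaf (nat_lit 204) (nat_lit 1) [nat_lit 2, nat_lit 1, nat_lit 2, nat_lit 1, nat_lit 2, nat_lit 1, nat_lit 2, nat_lit 1, nat_lit 2, nat_lit 1, nat_lit 2])) (.node (nat_lit 316) (.leaf (nat_lit 205) (nat_lit 2) [nat_lit 1, nat_lit 2, nat_lit 1, nat_lit 2, nat_lit 1, nat_lit 2, nat_lit 1, nat_lit 2, nat_lit 1, nat_lit 2, nat_lit 1]) (.node (nat_lit 317) (.leaf (nat_lit 204) (nat_lit 1) [nat_lit 2, nat_lit 1, nat_lit 2, nat_lit 1, nat_lit 2, nat_lit 1, nat_lit 2, nat_lit 1, nat_lit 2, nat_lit 1, nat_lit 2]) (.leaf (nat_lit 205) (nat_lit 2) [nat_lit 1, nat_lit 2, nat_lit 1, nat_lit 2, nat_lit 1, nat_lit 2, nat_lit 1, nat_lit 2, nat_lit 1, nat_lit 2, nat_lit 1])))) (.node (nat_lit 321) (.node (nat_lit 319) (.leaf (nat_lit 204) (nat_lit 1)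 [nat_lit 2, nat_lit 1, nat_lit 2, nat_lit 1, nat_lit 2, nat_lit 1, nat_lit 2, nat_lit 1, nat_lit 2, nat_lit 1, nat_lit 2]) (.node (nat_lit 320) (.leaf (nat_lit 205) (nat_lit 2) [nat_lit 1, nat_lit 2, nat_lit 1, nat_lit 2, nat_lit 1, nat_lit 2, nat_lit 1, nat_lit 2, nat_lit 1, nat_lit 2, nat_lit 1]) (.leaf (nat_lit 204) (nat_lit 1) [nat_lit 2, nat_lit 1, nat_lit 2, nat_lit 1, nat_lit 2, nat_lit 1, nat_lit 2, nat_lit 1, nat_lit 2, nat_lit 1, nat_lit 2]))) (.node (nat_lit 322) (.leaf (nat_lit 205) (nat_lit 2) [nat_lit 1, nat_lit 2, nat_lit 1, nat_lit 2, nat_lit 1, nat_lit 2, nat_lit 1, nat_lit 2, nat_lit 1, nat_lit 2, nat_lit 1]) (.node (nat_lit 323) (.leaf (nat_lit 204) (nat_lit 1) [nat_lit 2, nat_lit 1, nat_lit 2, nat_lit 1, nat_lit 2, nat_lit 1, nat_lit 2, nat_lit 1, nat_lit 2, nat_lit 1, nat_lit 2]) (.leaf (nat_lit 205) (nat_lit 2) [nat_lit 1, nat_lit 2, nat_lit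 1, nat_lit 2, nat_lit 1, nat_lit 2, nat_lit 1, nat_lit 2, nat_lit 1, nat_lit 2, nat_lit 1])))))))))
/-- the relators -/
def relsL : List (List ℕ) := [[nat_lit 1, nat_lit 0, nat_lit 1, nat_lit 0, nat_lit 1, nat_lit 0],
  [nat_lit 2, nat_lit 0, nat_lit 2, nat_lit 0, nat_lit 2, nat_lit 0],
  [nat_lit 2, nat_lit 1, nat_lit 2, nat_lit 1, nat_lit 2, nat_lit 1],
  [nat_lit 0, nat_lit 1, nat_lit 0, nat_lit 1, nat_lit 0, nat_lit 1, nat_lit 0, nat_lit 1, nat_lit 0, nat_lit 1, nat_lit 0, nat_lit 1],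
  [nat_lit 0, nat_lit 2, nat_lit 0, nat_lit 1, nat_lit 0, nat_lit 2, nat_lit 0, nat_lit 1, nat_lit 0, nat_lit 2, nat_lit 0, nat_lit 1],
  [nat_lit 0, nat_lit 1, nat_lit 0, nat_lit 2, nat_lit 0, nat_lit 1, nat_lit 0, nat_lit 2, nat_lit 0, nat_lit 1, nat_lit 0, nat_lit 2],
  [nat_lit 0, nat_lit 2, nat_lit 0, nat_lit 2, nat_lit 0, nat_lit 2, nat_lit 0, nat_lit 2, nat_lit 0, nat_lit 2, nat_lit 0, nat_lit 2],
  [nat_lit 1, nat_lit 0, nat_lit 1, nat_lit 0, nat_lit 1, nat_lit 0, nat_lit 1, nat_lit 0, nat_lit 1, nat_lit 0, nat_lit 1, nat_lit 0],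
  [nat_lit 1, nat_lit 2, nat_lit 1, nat_lit 0, nat_lit 1, nat_lit 2, nat_lit 1, nat_lit 0, nat_lit 1, nat_lit 2, nat_lit 1, nat_lit 0],
  [nat_lit 1, nat_lit 0, nat_lit 1, nat_lit 2, nat_lit 1, nat_lit 0, nat_lit 1, nat_lit 2, nat_lit 1, nat_lit 0, nat_lit 1, nat_lit 2],
  [nat_lit 1, nat_lit 2, nat_lit 1, nat_lit 2, nat_lit 1, nat_lit 2, nat_lit 1, nat_lit 2, nat_lit 1, nat_lit 2, nat_lit 1, nat_lit 2],
  [nat_lit 2, nat_lit 0, nat_lit 2, nat_lit 0, nat_lit 2, nat_lit 0, nat_lit 2, nat_lit 0, nat_lit 2, nat_lit 0, nat_lit 2, nat_lit 0],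
  [nat_lit 2, nat_lit 1, nat_lit 2, nat_lit 0, nat_lit 2, nat_lit 1, nat_lit 2, nat_lit 0, nat_lit 2, nat_lit 1, nat_lit 2, nat_lit 0],
  [nat_lit 2, nat_lit 0, nat_lit 2, nat_lit 1, nat_lit 2, nat_lit 0, nat_lit 2, nat_lit 1, nat_lit 2, nat_lit 0, nat_lit 2, nat_lit 1],
  [nat_lit 2, nat_lit 1, nat_lit 2, nat_lit 1, nat_lit 2, nat_lit 1, nat_lit 2, nat_lit 1, nat_lit 2, nat_lit 1, nat_lit 2, nat_lit 1],
  [nat_lit 0, nat_lit 0],
  [nat_lit 1, nat_lit 1],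
  [nat_lit 2, nat_lit 2]]
/-- the subgroup words -/
def hwL : List (List ℕ) := [[nat_lit 0]]

/-- the certificate -/
noncomputable def cfg : Cfg :=
  mkCfg (fun k => TT.fld tE (nat_lit 92) (nat_lit 1023) (nat_lit 4951760157141521099596496895) k)
    (nat_lit 108) (nat_lit 27) (nat_lit 27) (nat_lit 3) (nat_lit 4)
    (fun x => x)
    (fun k => TT.fld tP (nat_lit 32) (nat_lit 1023) (nat_lit 4294967295) k)
    (fun k => TT.fld tQ (nat_lit 32) (nat_lit 1023) (nat_lit 4294967295) k)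
    rT hwL

/-- the orbit certificate -/
noncomputable def oc : OCert where
  oid := fun j => Nat.land (TT.fld tO (nat_lit 64) (nat_lit 1023) (nat_lit 18446744073709551615) j) (nat_lit 65535)
  prnt := fun j => Nat.land (Nat.shiftRight (TT.fld tO (nat_lit 64) (nat_lit 1023) (nat_lit 18446744073709551615) j) (nat_lit 16)) (nat_lit 16777215)
  pw := fun j => Nat.land (Nat.shiftRight (TT.fld tO (nat_lit 64) (nat_lit 1023) (nat_lit 18446744073709551615) j) (nat_lit 40)) (nat_lit 255)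
  rk := fun j => Nat.shiftRight (TT.fld tO (nat_lit 64) (nat_lit 1023) (nat_lit 18446744073709551615) j) (nat_lit 48)
  rep := fun d => List.getD [] d 0

/-- the relators -/
def rsL : List (FreeGroup (Fin 3)) := [(FreeGroup.of (0 : Fin 3)) * (FreeGroup.of (0 : Fin 3)),
  (FreeGroup.of (1 : Fin 3)) * (FreeGroup.of (1 : Fin 3)),
  (FreeGroup.of (2 : Fin 3)) * (FreeGroup.of (2 : Fin 3)),
  ((FreeGroup.of (0 : Fin 3)) * (FreeGroup.of (1 : Fin 3))) ^ 3,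
  ((FreeGroup.of (0 : Fin 3)) * (FreeGroup.of (2 : Fin 3))) ^ 3,
  ((FreeGroup.of (1 : Fin 3)) * (FreeGroup.of (2 : Fin 3))) ^ 3,
  ((FreeGroup.of (1 : Fin 3)) * (FreeGroup.of (0 : Fin 3)) * (FreeGroup.of (1 : Fin 3)) * (FreeGroup.of (0 : Fin 3))) ^ 3,
  ((FreeGroup.of (1 : Fin 3)) * (FreeGroup.of (0 : Fin 3)) * (FreeGroup.of (2 : Fin 3)) * (FreeGroup.of (0 : Fin 3))) ^ 3,
  ((FreeGroup.of (2 : Fin 3)) * (FreeGroup.of (0 : Fin 3)) * (FreeGroup.of (1 : Fin 3)) * (FreeGroup.of (0 : Fin 3))) ^ 3,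
  ((FreeGroup.of (2 : Fin 3)) * (FreeGroup.of (0 : Fin 3)) * (FreeGroup.of (2 : Fin 3)) * (FreeGroup.of (0 : Fin 3))) ^ 3,
  ((FreeGroup.of (0 : Fin 3)) * (FreeGroup.of (1 : Fin 3)) * (FreeGroup.of (0 : Fin 3)) * (FreeGroup.of (1 : Fin 3))) ^ 3,
  ((FreeGroup.of (0 : Fin 3)) * (FreeGroup.of (1 : Fin 3)) * (FreeGroup.of (2 : Fin 3)) * (FreeGroup.of (1 : Fin 3))) ^ 3,
  ((FreeGroup.of (2 : Fin 3)) * (FreeGroup.of (1 : Fin 3)) * (FreeGroup.of (0 : Fin 3)) * (FreeGroup.of (1 : Fin 3))) ^ 3,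
  ((FreeGroup.of (2 : Fin 3)) * (FreeGroup.of (1 : Fin 3)) * (FreeGroup.of (2 : Fin 3)) * (FreeGroup.of (1 : Fin 3))) ^ 3,
  ((FreeGroup.of (0 : Fin 3)) * (FreeGroup.of (2 : Fin 3)) * (FreeGroup.of (0 : Fin 3)) * (FreeGroup.of (2 : Fin 3))) ^ 3,
  ((FreeGroup.of (0 : Fin 3)) * (FreeGroup.of (2 : Fin 3)) * (FreeGroup.of (1 : Fin 3)) * (FreeGroup.of (2 : Fin 3))) ^ 3,
  ((FreeGroup.of (1 : Fin 3)) * (FreeGroup.of (2 : Fin 3)) * (FreeGroup.of (0 : Fin 3)) * (FreeGroup.of (2 : Fin 3))) ^ 3,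
  ((FreeGroup.of (1 : Fin 3)) * (FreeGroup.of (2 : Fin 3)) * (FreeGroup.of (1 : Fin 3)) * (FreeGroup.of (2 : Fin 3))) ^ 3]

/-- the group side of the certificate -/
def D : Data (Fin 3) where
  lets := [(0,true),(1,true),(2,true)]
  rs := rsL
  Hs := [(FreeGroup.of (0 : Fin 3))]
  rels := relsL
  hw := hwL

end Cfsg.Agent.Lib.Compute.TC.Fw3
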